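import Cfsg.Agent.Lib.Steiner.Basic

/-!
Intersection numbers of the systems S(5,8,24), S(4,7,23), S(3,6,22), S(5,6,12).
-/

set_option autoImplicit false

namespace Cfsg.Agent.Lib.Steiner

variable {α : Type*} [Fintype α] [DecidableEq α] {B : Set (Finset α)}

/-- Blocks other than `b` meeting it in `j` points. -/
noncomputable def meetCard (B : Set (Finset α)) (b : Finset α) (j : ℕ) : ℕ :=
  (((blocks B).erase b).filter fun c => (b ∩ c).card = j).card

theorem meetCard_pos {b c : Finset α} (hc : c ∈ B) (hne : b ≠ c) : 0 < meetCard B b (b ∩ c).card :=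
  Finset.card_pos.2 ⟨c, Finset.mem_filter.2 ⟨Finset.mem_erase.2 ⟨hne.symm, mem_blocks.2 hc⟩, rfl⟩⟩

theorem distribution' {t k : ℕ} (hB : Cfsg.IsSteinerSystem t k B) {b : Finset α} (hb : b ∈ B)
    {i lam : ℕ} (hi : i ≤ t) (hkt : t ≤ k)
    (h : lam * Nat.choose (k - i) (t - i) = Nat.choose (Fintype.card α - i) (t - i)) :
    Nat.choose k i + ∑ j ∈ Finset.range t, meetCard B b j * Nat.choose j i = Nat.choose k i * lam :=
  distribution hB hb hi hkt h

section S24

variable (hα : Fintype.card α = 24) (hB : Cfsg.IsSteinerSystem 5 8 B)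

include hα hB

theorem meet24 {b : Finset α} (hb : b ∈ B) :
    meetCard B b 0 = 30 ∧ meetCard B b 1 = 0 ∧ meetCard B b 2 = 448 ∧ meetCard B b 3 = 0 ∧
      meetCard B b 4 = 280 := by
  have h0 := distribution' hB hb (i := 0) (lam := 759) (by norm_num) (by norm_num) (by rw [hα]; decide)
  have h1 := distribution' hB hb (i := 1) (lam := 253) (by norm_num) (by norm_num) (by rw [hα]; decide)
  have h2 := distribution' hB hb (i := 2) (lam := 77) (by norm_num) (by norm_num) (by rw [hα]; decide)
  have h3 := distribution' hB hb (i := 3) (lam := 21) (by norm_num) (by norm_num) (by rw [hα]; decide)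
  have h4 := distribution' hB hb (i := 4) (lam := 5) (by norm_num) (by norm_num) (by rw [hα]; decide)
  simp only [Finset.sum_range_succ, Finset.sum_range_zero] at *
  norm_num [Nat.choose] at h0 h1 h2 h3 h4 ⊢
  omega

theorem inter24 {b c : Finset α} (hb : b ∈ B) (hc : c ∈ B) (hbc : b ≠ c) :
    (b ∩ c).card = 0 ∨ (b ∩ c).card = 2 ∨ (b ∩ c).card = 4 := by
  obtain ⟨-, h1, -, h3, -⟩ := meet24 hα hB hb
  have hlt := inter_lt hB hb hc hbc
  have hpos := meetCard_pos (B := B) hc hbc
  generalize (b ∩ c).card = n at *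
  interval_cases n <;> omega

theorem even_inter {b c : Finset α} (hb : b ∈ B) (hc : c ∈ B) : Even (b ∩ c).card := by
  rcases eq_or_ne b c with rfl | hbc
  · rw [Finset.inter_self, hB.1 b hb]; decide
  · rcases inter24 hα hB hb hc hbc with h | h | h <;> rw [h] <;> decide

theorem symmDiff24 {b c : Finset α} (hb : b ∈ B) (hc : c ∈ B) (h4 : (b ∩ c).card = 4) :
    symmDiff b c ∈ B := by
  have hw : (symmDiff b c).card = 8 := by
    rw [symmDiff_def, Finset.sup_eq_union, Finset.card_union_of_disjoint disjoint_sdiff_sdiff,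
      Finset.card_sdiff, Finset.card_sdiff, Finset.inter_comm c b, h4, hB.1 b hb, hB.1 c hc]
  have heven : ∀ e ∈ B, Even (symmDiff b c ∩ e).card := by
    intro e he
    have h1 : symmDiff b c ∩ e = ((b ∩ e) \ (b ∩ c ∩ e)) ∪ ((c ∩ e) \ (b ∩ c ∩ e)) := by
      ext x
      simp only [Finset.mem_inter, Finset.mem_symmDiff, Finset.mem_union, Finset.mem_sdiff]
      tauto
    have hsub1 : b ∩ c ∩ e ⊆ b ∩ e := fun x hx => by simp only [Finset.mem_inter] at hx ⊢; tauto
    have hsub2 : b ∩ c ∩ e ⊆ c ∩ e := fun x hx => by simp only [Finset.mem_inter] at hx ⊢; tauto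
    have hd : Disjoint ((b ∩ e) \ (b ∩ c ∩ e)) ((c ∩ e) \ (b ∩ c ∩ e)) := by
      rw [Finset.disjoint_left]
      intro x hx hx'
      simp only [Finset.mem_inter, Finset.mem_sdiff] at hx hx'
      tauto
    rw [h1, Finset.card_union_of_disjoint hd, Finset.card_sdiff_of_subset hsub1,
      Finset.card_sdiff_of_subset hsub2]
    obtain ⟨p, hp⟩ := even_inter hα hB hb he
    obtain ⟨r, hr⟩ := even_inter hα hB hc he
    have hl1 := Finset.card_le_card hsub1
    have hl2 := Finset.card_le_card hsub2
    exact ⟨p + r - (b ∩ c ∩ e).card, by omega⟩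
  by_contra hne
  set w := symmDiff b c with hwdef
  have hm := moment hB w (i := 5) (lam := 1) le_rfl (by norm_num) (by rw [hα]; decide)
  rw [hw, show Nat.choose 8 5 * 1 = 56 by decide] at hm
  have hterm : ∀ e ∈ blocks B, 6 ∣ Nat.choose (w ∩ e).card 5 := by
    intro e he
    rw [mem_blocks] at he
    obtain ⟨r, hr⟩ := heven e he
    have hle : (w ∩ e).card ≤ 8 := hw ▸ Finset.card_le_card Finset.inter_subset_left
    have h8 : (w ∩ e).card ≠ 8 := by
      intro h8
      have h1 : w ∩ e = w := Finset.eq_of_subset_of_card_le Finset.inter_subset_left (by omega)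
      have h2 : w ∩ e = e :=
        Finset.eq_of_subset_of_card_le Finset.inter_subset_right (by rw [hB.1 e he]; omega)
      rw [h1] at h2
      exact hne (h2 ▸ he)
    generalize (w ∩ e).card = n at *
    interval_cases n <;> first | omega | decide
  have := Finset.dvd_sum hterm
  omega

end S24

theorem meet23 (hα : Fintype.card α = 23) (hB : Cfsg.IsSteinerSystem 4 7 B) {b : Finset α} (hb : b ∈ B) :
    meetCard B b 0 = 0 ∧ meetCard B b 1 = 112 ∧ meetCard B b 2 = 0 ∧ meetCard B b 3 = 140 := by
  have h0 := distribution' hB hb (i := 0) (lam := 253) (by norm_num) (by norm_num) (by rw [hα]; decide)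
  have h1 := distribution' hB hb (i := 1) (lam := 77) (by norm_num) (by norm_num) (by rw [hα]; decide)
  have h2 := distribution' hB hb (i := 2) (lam := 21) (by norm_num) (by norm_num) (by rw [hα]; decide)
  have h3 := distribution' hB hb (i := 3) (lam := 5) (by norm_num) (by norm_num) (by rw [hα]; decide)
  simp only [Finset.sum_range_succ, Finset.sum_range_zero] at *
  norm_num [Nat.choose] at h0 h1 h2 h3 ⊢
  omega

theorem meet22 (hα : Fintype.card α = 22) (hB : Cfsg.IsSteinerSystem 3 6 B) {b : Finset α} (hb : b ∈ B) :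
    meetCard B b 0 = 16 ∧ meetCard B b 1 = 0 ∧ meetCard B b 2 = 60 := by
  have h0 := distribution' hB hb (i := 0) (lam := 77) (by norm_num) (by norm_num) (by rw [hα]; decide)
  have h1 := distribution' hB hb (i := 1) (lam := 21) (by norm_num) (by norm_num) (by rw [hα]; decide)
  have h2 := distribution' hB hb (i := 2) (lam := 5) (by norm_num) (by norm_num) (by rw [hα]; decide)
  simp only [Finset.sum_range_succ, Finset.sum_range_zero] at *
  norm_num [Nat.choose] at h0 h1 h2 ⊢
  omega

theorem inter22 (hα : Fintype.card α = 22) (hB : Cfsg.IsSteinerSystem 3 6 B) {b c : Finset α}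
    (hb : b ∈ B) (hc : c ∈ B) (hbc : b ≠ c) : (b ∩ c).card = 0 ∨ (b ∩ c).card = 2 := by
  obtain ⟨-, h1, -⟩ := meet22 hα hB hb
  have hlt := inter_lt hB hb hc hbc
  have hpos := meetCard_pos (B := B) hc hbc
  generalize (b ∩ c).card = n at *
  interval_cases n <;> omega

theorem meet12 (hα : Fintype.card α = 12) (hB : Cfsg.IsSteinerSystem 5 6 B) {b : Finset α} (hb : b ∈ B) :
    meetCard B b 0 = 1 := by
  have h0 := distribution' hB hb (i := 0) (lam := 132) (by norm_num) (by norm_num) (by rw [hα]; decide)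
  have h1 := distribution' hB hb (i := 1) (lam := 66) (by norm_num) (by norm_num) (by rw [hα]; decide)
  have h2 := distribution' hB hb (i := 2) (lam := 30) (by norm_num) (by norm_num) (by rw [hα]; decide)
  have h3 := distribution' hB hb (i := 3) (lam := 12) (by norm_num) (by norm_num) (by rw [hα]; decide)
  have h4 := distribution' hB hb (i := 4) (lam := 4) (by norm_num) (by norm_num) (by rw [hα]; decide)
  simp only [Finset.sum_range_succ, Finset.sum_range_zero] at *
  norm_num [Nat.choose] at h0 h1 h2 h3 h4 ⊢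
  omega

end Cfsg.Agent.Lib.Steiner
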