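import Cfsg.Agent.Lib.Code24.SteinerCode
import Cfsg.Agent.Lib.Golay.Mathieu

/-! # The large Steiner systems inside the binary code of length 24 -/

set_option autoImplicit false
set_option maxRecDepth 100000

namespace Cfsg.Agent.Lib.Steiner

open Finset Cfsg Cfsg.Agent.Lib.Golay
open scoped Pointwise

/-! ### General facts -/

theorem setSystemIso_trans' {α β γ : Type*} [DecidableEq β] [DecidableEq γ] {B : Set (Finset α)}
    {B' : Set (Finset β)} {B'' : Set (Finset γ)} (h : SetSystemIso B B'') (h' : SetSystemIso B' B'') :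
    SetSystemIso B B' := by
  classical
  obtain ⟨e, he⟩ := h
  obtain ⟨e', he'⟩ := h'
  refine ⟨e.trans e'.symm, ?_⟩
  have hinv : ∀ b : Finset β, (b.image e').image e'.symm = b := fun b => by
    rw [Finset.image_image, e'.symm_comp_self, Finset.image_id]
  have hf : ∀ b : Finset α, b.image (e.trans e'.symm) = (b.image e).image e'.symm := fun b => by
    rw [Finset.image_image, Equiv.coe_trans]
  ext b
  simp only [Set.mem_image, hf]
  constructor
  · rintro ⟨a, ha, rfl⟩
    obtain ⟨c, hc, hce⟩ := (Set.ext_iff.1 (he.trans he'.symm) _).1 ⟨a, ha, rfl⟩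
    simp only at hce
    rw [← hce, hinv]; exact hc
  · intro hb
    obtain ⟨a, ha, hab⟩ := (Set.ext_iff.1 (he.trans he'.symm) _).2 ⟨b, hb, rfl⟩
    simp only at hab
    exact ⟨a, ha, by rw [hab, hinv]⟩

theorem smul_perm_finset {α : Type*} [DecidableEq α] (σ : Equiv.Perm α) (s : Finset α) :
    σ • s = s.image σ := rfl

/-- Membership in the automorphism group from one inclusion. -/
theorem mem_aut_of_le {α : Type*} [Fintype α] [DecidableEq α] {B : Set (Finset α)}
    {σ : Equiv.Perm α} (h : ∀ b ∈ B, b.image σ ∈ B) : σ ∈ setSystemAut B := by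
  rw [MulAction.mem_stabilizer_iff]
  refine Set.eq_of_subset_of_ncard_le ?_ (by rw [Set.ncard_smul_set]) (Set.toFinite _)
  rintro _ ⟨b, hb, rfl⟩
  exact h b hb

theorem mem_aut_image {α : Type*} [DecidableEq α] {B : Set (Finset α)} {σ : Equiv.Perm α}
    (hσ : σ ∈ setSystemAut B) {b : Finset α} (hb : b ∈ B) : b.image σ ∈ B := by
  rw [MulAction.mem_stabilizer_iff] at hσ
  rw [← hσ]
  exact Set.smul_mem_smul_set hb

/-- Isomorphic families have isomorphic automorphism groups. -/
theorem exists_autEquiv {α β : Type*} [Fintype α] [DecidableEq α] [Fintype β] [DecidableEq β]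
    {B : Set (Finset α)} {B' : Set (Finset β)} (h : SetSystemIso B B') :
    ∃ (e : α ≃ β) (E : setSystemAut B ≃* setSystemAut B'), ∀ (σ : setSystemAut B) a,
      (E σ : Equiv.Perm β) (e a) = e ((σ : Equiv.Perm α) a) := by
  obtain ⟨e, rfl⟩ := h
  have hmem : ∀ σ : Equiv.Perm α, σ ∈ setSystemAut B →
      e.permCongr σ ∈ setSystemAut ((fun b => b.image e) '' B) := by
    intro σ hσ
    refine mem_aut_of_le ?_
    rintro _ ⟨b, hb, rfl⟩
    refine ⟨b.image σ, mem_aut_image hσ hb, ?_⟩
    simp only [Finset.image_image]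
    refine Finset.image_congr fun a _ => ?_
    simp
  have hmem' : ∀ τ : Equiv.Perm β, τ ∈ setSystemAut ((fun b => b.image e) '' B) →
      e.symm.permCongr τ ∈ setSystemAut B := by
    intro τ hτ
    refine mem_aut_of_le fun b hb => ?_
    obtain ⟨c, hc, hce⟩ := mem_aut_image hτ (Set.mem_image_of_mem _ hb)
    simp only [Finset.image_image] at hce
    have : b.image (e.symm.permCongr τ) = c := by
      apply Finset.image_injective e.injective
      rw [hce, Finset.image_image]
      refine Finset.image_congr fun a _ => ?_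
      simp
    rw [this]; exact hc
  refine ⟨e,
    { toFun := fun σ => ⟨e.permCongr σ.1, hmem σ.1 σ.2⟩
      invFun := fun τ => ⟨e.symm.permCongr τ.1, hmem' τ.1 τ.2⟩
      left_inv := fun σ => Subtype.ext (Equiv.ext fun a => by simp)
      right_inv := fun τ => Subtype.ext (Equiv.ext fun a => by simp)
      map_mul' := fun σ τ => Subtype.ext (Equiv.ext fun a => by simp) },
    fun σ a => ?_⟩
  simp

theorem pretransitive_transfer {G H α β : Type*} [Group G] [Group H] [MulAction G α] [MulAction H β]
    (e : α ≃ β) (E : G ≃* H) (hE : ∀ g a, E g • e a = e (g • a)) {k : ℕ}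
    (h : MulAction.IsMultiplyPretransitive H β k) : MulAction.IsMultiplyPretransitive G α k := by
  rw [MulAction.isMultiplyPretransitive_iff]
  intro x y
  obtain ⟨g, hg⟩ := (MulAction.isMultiplyPretransitive_iff (G := H) (α := β) (n := k)).1 h
    (x.trans e.toEmbedding) (y.trans e.toEmbedding)
  refine ⟨E.symm g, ?_⟩
  ext i
  have h1 : g • e (x i) = e (y i) := by simpa using DFunLike.congr_fun hg i
  apply e.injective
  rw [Function.Embedding.smul_apply, ← hE, E.apply_symm_apply]
  exact h1

/-! ### Transport to the 24 points -/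

theorem even_word_inter {s t : Finset GolayPt} (hs : s ∈ codeSets) (ht : t ∈ codeSets) :
    2 ∣ (s ∩ t).card := by
  obtain ⟨v, hv, rfl⟩ := hs
  obtain ⟨w, hw, rfl⟩ := ht
  have h := selfOrth hv hw
  rw [Finset.sum_congr rfl (g := fun i => if v i ≠ 0 ∧ w i ≠ 0 then (1 : ZMod 2) else 0)
    (fun i _ => (by decide : ∀ a b : ZMod 2, a * b = if a ≠ 0 ∧ b ≠ 0 then 1 else 0) _ _),
    Finset.sum_boole, ZMod.natCast_eq_zero_iff_even, even_iff_two_dvd] at h
  have heq : support₂ v ∩ support₂ w = univ.filter fun i => v i ≠ 0 ∧ w i ≠ 0 := by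
    rw [support₂, support₂, ← Finset.filter_and]
  rwa [heq]

theorem toW_image_mem {γ : Type*} [DecidableEq γ] {e0 : γ ≃ Fin 24} {G : Set (Finset γ)}
    {g : Finset γ} (hg : g ∈ G) :
    Code24.toW (g.image e0) ∈ Code24.spanCode ((fun s => s.image e0) '' G) :=
  Submodule.subset_span ⟨_, ⟨g, hg, rfl⟩, rfl⟩

theorem image_hyps {γ : Type*} [DecidableEq γ] (e0 : γ ≃ Fin 24)
    {G : Set (Finset γ)} (heven : ∀ g ∈ G, ∀ g' ∈ G, 2 ∣ (g ∩ g').card)
    (hdet : ∀ v : Finset γ, v.Nonempty → v.card ≤ 7 → ∃ g ∈ G, ¬ 2 ∣ (v ∩ g).card) :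
    Code24.IsGolay (Code24.spanCode ((fun s => s.image e0) '' G)) := by
  refine Code24.span_isGolay ?_ ?_
  · rintro _ ⟨g, hg, rfl⟩ _ ⟨g', hg', rfl⟩
    simp only
    rw [← Finset.image_inter _ _ e0.injective, Finset.card_image_of_injective _ e0.injective]
    exact heven g hg g' hg'
  · intro v h0 h7
    obtain ⟨g, hg, hodd⟩ := hdet (v.image e0.symm) (h0.image _)
      (by rwa [Finset.card_image_of_injective _ e0.symm.injective])
    refine ⟨g.image e0, ⟨g, hg, rfl⟩, ?_⟩
    rwa [← Finset.card_image_of_injective _ e0.injective, Finset.image_inter _ _ e0.injective,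
      Finset.image_image, e0.self_comp_symm, Finset.image_id] at hodd

/-- A family with the parameters of a generating family is carried into the code sets. -/
theorem exists_equiv_code {γ : Type*} [Fintype γ] [DecidableEq γ] (hγ : Fintype.card γ = 24)
    {G : Set (Finset γ)} (heven : ∀ g ∈ G, ∀ g' ∈ G, 2 ∣ (g ∩ g').card)
    (hdet : ∀ v : Finset γ, v.Nonempty → v.card ≤ 7 → ∃ g ∈ G, ¬ 2 ∣ (v ∩ g).card) :
    ∃ f : γ ≃ GolayPt, ∀ g ∈ G, g.image f ∈ codeSets := by
  let e0 : γ ≃ Fin 24 := Fintype.equivFinOfCardEq hγ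
  obtain ⟨e, he⟩ := Code24.exists_equiv_supports (image_hyps e0 heven hdet)
  refine ⟨e0.trans e, fun g hg => ?_⟩
  rw [Equiv.coe_trans, ← Finset.image_image]
  exact (he _).2 (toW_image_mem hg)

/-- A set meeting every member of a generating family of code sets evenly is a code set. -/
theorem mem_codeSets_of_even {G : Set (Finset GolayPt)} (hG : ∀ g ∈ G, g ∈ codeSets)
    (hdet : ∀ v : Finset GolayPt, v.Nonempty → v.card ≤ 7 → ∃ g ∈ G, ¬ 2 ∣ (v ∩ g).card)
    {x : Finset GolayPt} (hx : ∀ g ∈ G, 2 ∣ (x ∩ g).card) : x ∈ codeSets := by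
  let e0 : GolayPt ≃ Fin 24 := Fintype.equivFinOfCardEq rfl
  have hgol := image_hyps e0 (fun g hg g' hg' => even_word_inter (hG g hg) (hG g' hg')) hdet
  set C := Code24.spanCode ((fun s : Finset GolayPt => s.image e0) '' G) with hC
  have hxC : Code24.toW (x.image e0) ∈ C := by
    refine Code24.mem_of_orth hgol (Code24.orth_span ?_)
    rintro _ ⟨g, hg, rfl⟩
    rw [Code24.supp_toW, ← Finset.image_inter _ _ e0.injective,
      Finset.card_image_of_injective _ e0.injective]
    exact hx g hg
  let f : Code24.W →ₗ[ZMod 2] GolayPt → ZMod 2 := LinearMap.funLeft (ZMod 2) (ZMod 2) e0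
  have hto : ∀ s : Finset GolayPt, f (Code24.toW (s.image e0)) = fun p => if p ∈ s then 1 else 0 := by
    intro s
    funext p
    simp [f, Code24.toW, LinearMap.funLeft_apply]
  have hsupp : ∀ s : Finset GolayPt,
      support₂ (fun p => if p ∈ s then (1 : ZMod 2) else 0) = s := by
    intro s; ext p; simp [support₂]
  have hle : ∀ c ∈ C, f c ∈ golayCode := by
    intro c hc
    induction hc using Submodule.span_induction with
    | mem y hy =>
      obtain ⟨_, ⟨g, hg, rfl⟩, rfl⟩ := hy
      rw [hto]
      obtain ⟨w, hw, hws⟩ := hG g hg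
      have : w = fun p => if p ∈ g then (1 : ZMod 2) else 0 := by
        rw [← word_mask w, ← word_mask fun p => if p ∈ g then (1 : ZMod 2) else 0, hsupp, hws]
      rwa [← this]
    | zero => rw [map_zero]; exact zero_mem _
    | add a b _ _ ha hb => rw [map_add]; exact add_mem ha hb
    | smul a b _ hb => rw [map_smul]; exact Submodule.smul_mem _ a hb
  exact ⟨_, hle _ hxC, by rw [hto, hsupp]⟩

/-- A permutation carrying a generating family into the code sets preserves the code. -/
theorem mem_M24_of_gen {G : Set (Finset GolayPt)} (hG : ∀ g ∈ G, g ∈ codeSets)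
    (hdet : ∀ v : Finset GolayPt, v.Nonempty → v.card ≤ 7 → ∃ g ∈ G, ¬ 2 ∣ (v ∩ g).card)
    {σ : Equiv.Perm GolayPt} (hσ : ∀ g ∈ G, σ • g ∈ codeSets) : σ ∈ M24 := by
  refine inv_mem_iff.1 (mem_M24_of_subset fun s hs => mem_codeSets_of_even hG hdet fun g hg => ?_)
  have h1 := even_word_inter hs (hσ g hg)
  have h2 : σ • (σ⁻¹ • s ∩ g) = s ∩ σ • g := by
    rw [Finset.smul_finset_inter, smul_inv_smul]
  rwa [← h2, Finset.card_smul_finset] at h1

theorem image_eq_of_le {γ : Type*} [Fintype γ] [DecidableEq γ] {B : Set (Finset γ)} {t k : ℕ}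
    {δ : Type*} [DecidableEq δ] {B' : Set (Finset δ)} (hB : IsSteinerSystem t k B) (f : γ ≃ δ)
    (hsub : ∀ b ∈ B, b.image f ∈ B') (htk : t ≤ k) (hB'card : ∀ b ∈ B', b.card = k)
    (hinj : ∀ b ∈ B', ∀ c ∈ B', t ≤ (b ∩ c).card → b = c) :
    (fun b : Finset γ => b.image f) '' B = B' := by
  refine Set.Subset.antisymm (Set.image_subset_iff.2 hsub) fun b' hb' => ?_
  obtain ⟨s, hs, hst⟩ := Finset.exists_subset_card_eq (s := b'.image f.symm) (n := t)
    (by rw [Finset.card_image_of_injective _ f.symm.injective, hB'card b' hb']; exact htk)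
  obtain ⟨b, ⟨hb, hsb⟩, -⟩ := hB.2 s hst
  refine ⟨b, hb, hinj _ (hsub b hb) _ hb' ?_⟩
  calc t = (s.image f).card := by rw [Finset.card_image_of_injective _ f.injective, hst]
    _ ≤ _ := Finset.card_le_card (Finset.subset_inter (Finset.image_subset_image hsb) ?_)
  rw [show b' = (b'.image f.symm).image f by
    rw [Finset.image_image, f.self_comp_symm, Finset.image_id]]
  exact Finset.image_subset_image hs

/-! ### S(5,8,24) -/

theorem iso_octads {α : Type*} [Fintype α] [DecidableEq α] {B : Set (Finset α)}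
    (hα : Fintype.card α = 24) (hB : IsSteinerSystem 5 8 B) : SetSystemIso B octads := by
  obtain ⟨f, hf⟩ := exists_equiv_code hα (G := B)
    (fun g hg g' hg' => even_iff_two_dvd.1 (even_inter hα hB hg hg'))
    (fun v h0 h7 => Code24.detect24 hα hB h0 h7)
  exact ⟨f, image_eq_of_le hB f
    (fun b hb => ⟨hf b hb, by rw [Finset.card_image_of_injective _ f.injective, hB.1 b hb]⟩)
    (by norm_num) (fun b hb => octads_card hb) fun b hb c hc h => octad_eq_of_five hb hc h⟩

/-! ### S(4,7,23) -/

/-- The 22 or 23 point set with one point adjoined. -/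
def up {α : Type*} (b : Finset α) : Finset (Option α) := Finset.insertNone b

theorem mem_up_none {α : Type*} {b : Finset α} : none ∈ up b := Finset.none_mem_insertNone

theorem mem_up_some {α : Type*} {b : Finset α} {a : α} : some a ∈ up b ↔ a ∈ b :=
  Finset.some_mem_insertNone

theorem card_up {α : Type*} (b : Finset α) : (up b).card = b.card + 1 := Finset.card_insertNone b

theorem card_option_inter {α : Type*} [DecidableEq α] (v : Finset (Option α)) (b : Finset α) :
    (v ∩ up b).card = (Finset.eraseNone v ∩ b).card + if none ∈ v then 1 else 0 := by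
  have h : Finset.eraseNone (v ∩ up b) = Finset.eraseNone v ∩ b := by
    ext a; simp [mem_up_some]
  split_ifs with hn
  · have h2 : v ∩ up b = Finset.insertNone (Finset.eraseNone v ∩ b) := by
      rw [← h, Finset.insertNone_eraseNone, Finset.insert_eq_of_mem]
      exact Finset.mem_inter.2 ⟨hn, mem_up_none⟩
    rw [h2, Finset.card_insertNone]
  · have h2 : v ∩ up b = (Finset.eraseNone v ∩ b).map Function.Embedding.some := by
      rw [← h, Finset.map_some_eraseNone, Finset.erase_eq_of_notMem]
      exact fun h' => hn (Finset.mem_inter.1 h').1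
    rw [h2, Finset.card_map, add_zero]

theorem card_eraseNone' {α : Type*} [DecidableEq α] (v : Finset (Option α)) :
    v.card = (Finset.eraseNone v).card + if none ∈ v then 1 else 0 := by
  split_ifs with hn
  · rw [← Finset.card_insertNone, Finset.insertNone_eraseNone, Finset.insert_eq_of_mem hn]
  · rw [← Finset.card_map Function.Embedding.some (s := Finset.eraseNone v),
      Finset.map_some_eraseNone,
      Finset.erase_eq_of_notMem hn, add_zero]

section S23

variable {α : Type*} [Fintype α] [DecidableEq α] {B : Set (Finset α)}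

theorem inter23 (hα : Fintype.card α = 23) (hB : IsSteinerSystem 4 7 B) {b c : Finset α}
    (hb : b ∈ B) (hc : c ∈ B) : ¬ 2 ∣ (b ∩ c).card := by
  rcases eq_or_ne b c with rfl | hbc
  · rw [Finset.inter_self, hB.1 b hb]; decide
  · obtain ⟨h0, -, h2, -⟩ := meet23 hα hB hb
    have hlt := inter_lt hB hb hc hbc
    have hpos := meetCard_pos (B := B) hc hbc
    generalize (b ∩ c).card = n at *
    interval_cases n <;> omega

theorem detect_up23 (hα : Fintype.card α = 23) (hB : IsSteinerSystem 4 7 B) (v : Finset (Option α))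
    (h0 : v.Nonempty) (h7 : v.card ≤ 7) : ∃ g ∈ up '' B, ¬ 2 ∣ (v ∩ g).card := by
  have hc := card_eraseNone' v
  by_cases hn : none ∈ v
  · rw [if_pos hn] at hc
    obtain ⟨c, hcB, h⟩ := Code24.detect23_odd hα hB (V := Finset.eraseNone v) (by omega)
    refine ⟨up c, ⟨c, hcB, rfl⟩, ?_⟩
    rw [card_option_inter, if_pos hn]
    omega
  · rw [if_neg hn] at hc
    obtain ⟨c, hcB, h⟩ := Code24.detect23_even hα hB (V := Finset.eraseNone v)
      (Finset.card_pos.1 (by have := h0.card_pos; omega)) (by omega)
    refine ⟨up c, ⟨c, hcB, rfl⟩, ?_⟩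
    rw [card_option_inter, if_neg hn]
    omega

end S23

/-- The blocks of the octads through the extra point. -/
def blocks23 : Set (Finset (ZMod 23)) := {b | up b ∈ octads}

theorem up_image {α β : Type*} [DecidableEq β] [DecidableEq α] (f : Option α ≃ Option β)
    (hf : f none = none) (b : Finset α) :
    (up b).image f = up (b.image (Equiv.removeNone f)) := by
  have h : ∀ a, some (Equiv.removeNone f a) = f (some a) := fun a => by
    rcases hx : f (some a) with _ | y
    · exact absurd (f.injective (hx.trans hf.symm)) (by simp)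
    · rw [Equiv.removeNone_some f ⟨y, hx⟩, hx]
  ext x
  simp only [Finset.mem_image]
  constructor
  · rintro ⟨z, hz, rfl⟩
    rcases z with _ | a
    · rw [hf]; exact mem_up_none
    · rw [← h, mem_up_some]; exact Finset.mem_image_of_mem _ (mem_up_some.1 hz)
  · intro hx
    rcases x with _ | y
    · exact ⟨none, mem_up_none, hf⟩
    · obtain ⟨a, ha, rfl⟩ := Finset.mem_image.1 (mem_up_some.1 hx)
      exact ⟨some a, mem_up_some.2 ha, (h a).symm⟩

theorem blocks23_inter {b c : Finset (ZMod 23)} (hb : b ∈ blocks23) (hc : c ∈ blocks23)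
    (h : 4 ≤ (b ∩ c).card) : b = c := by
  have h5 : 5 ≤ (up b ∩ up c).card := by
    rw [card_option_inter, if_pos mem_up_none]
    have : Finset.eraseNone (up b) = b := Finset.eraseNone_insertNone b
    rw [this]; omega
  have he := octad_eq_of_five hb hc h5
  exact Finset.insertNone.injective he

theorem iso_blocks23 {α : Type*} [Fintype α] [DecidableEq α] {B : Set (Finset α)}
    (hα : Fintype.card α = 23) (hB : IsSteinerSystem 4 7 B) : SetSystemIso B blocks23 := by
  have heven : ∀ g ∈ up '' B, ∀ g' ∈ up '' B, 2 ∣ (g ∩ g').card := by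
    rintro _ ⟨b, hb, rfl⟩ _ ⟨c, hc, rfl⟩
    rw [card_option_inter, if_pos mem_up_none, show Finset.eraseNone (up b) = b from
      Finset.eraseNone_insertNone b]
    have := inter23 hα hB hb hc
    omega
  obtain ⟨f0, hf0⟩ := exists_equiv_code (γ := Option α) (by rw [Fintype.card_option, hα])
    (G := up '' B) heven (detect_up23 hα hB)
  · obtain ⟨σ, hσ, hσ0⟩ := M24_trans_points (f0 none) none
    set f := f0.trans σ with hf
    have hfn : f none = none := by simp [hf, hσ0]
    refine ⟨Equiv.removeNone f, image_eq_of_le hB _ (fun b hb => ?_) (by norm_num)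
      (fun b hb => ?_) fun b hb c hc => blocks23_inter hb hc⟩
    · show up (b.image _) ∈ octads
      rw [← up_image f hfn]
      refine ⟨?_, by rw [Finset.card_image_of_injective _ f.injective, card_up, hB.1 b hb]⟩
      rw [hf, Equiv.coe_trans, ← Finset.image_image]
      exact mem_aut_image hσ (hf0 _ ⟨b, hb, rfl⟩)
    · have := octads_card hb
      rw [card_up] at this; omega

theorem blocks23_steiner : IsSteinerSystem 4 7 blocks23 := by
  refine ⟨fun b hb => ?_, fun s hs => ?_⟩
  · have := octads_card hb; rw [card_up] at this; omega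
  obtain ⟨o, ⟨ho, hso⟩, huniq⟩ := octads_steiner.2 (up s) (by rw [card_up, hs])
  have hup : up (Finset.eraseNone o) = o := by
    rw [up, Finset.insertNone_eraseNone, Finset.insert_eq_of_mem (hso mem_up_none)]
  refine ⟨Finset.eraseNone o,
    ⟨show up _ ∈ octads by rw [hup]; exact ho, fun a ha => Finset.mem_eraseNone.2 (hso (mem_up_some.2 ha))⟩,
    fun b hb => ?_⟩
  have : up b = o := huniq _ ⟨hb.1, fun x hx => by
    rcases x with _ | a
    · exact mem_up_none
    · exact mem_up_some.2 (hb.2 (mem_up_some.1 hx))⟩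
  rw [← this]; exact (Finset.eraseNone_insertNone b).symm

/-- The automorphisms of the blocks through the extra point form its stabiliser. -/
theorem autEquiv23 : ∃ E : setSystemAut blocks23 ≃* st1 none,
    ∀ σ a, (E σ : Equiv.Perm GolayPt) (some a) = some ((σ : Equiv.Perm (ZMod 23)) a) := by
  have h23 := blocks23_steiner
  have hmem : ∀ σ : Equiv.Perm (ZMod 23), σ ∈ setSystemAut blocks23 →
      Equiv.optionCongr σ ∈ st1 none := by
    intro σ hσ
    refine ⟨mem_M24_of_gen (G := up '' blocks23) ?_ (detect_up23 (ZMod.card 23) h23) ?_,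
      Equiv.optionCongr_apply σ none⟩
    · rintro _ ⟨b, hb, rfl⟩; exact hb.1
    · rintro _ ⟨b, hb, rfl⟩
      rw [smul_perm_finset, up_image _ (Equiv.optionCongr_apply σ none), Equiv.removeNone_optionCongr]
      exact (mem_aut_image hσ hb).1
  have hmem' : ∀ g : Equiv.Perm GolayPt, g ∈ st1 none →
      Equiv.removeNone g ∈ setSystemAut blocks23 := by
    rintro g ⟨hg, hg0⟩
    refine mem_aut_of_le fun b hb => ?_
    show up _ ∈ octads
    rw [← up_image g hg0, ← smul_perm_finset]
    exact smul_mem_octads hg hb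
  have hcong : ∀ g : Equiv.Perm GolayPt, g none = none → Equiv.optionCongr (Equiv.removeNone g) = g := by
    intro g hg0
    refine Equiv.ext fun x => ?_
    rcases x with _ | a
    · simp [hg0]
    · rcases hx : g (some a) with _ | y
      · exact absurd (g.injective (hx.trans hg0.symm)) (by simp)
      · simp [hx, hg0]
  exact ⟨{ toFun := fun σ => ⟨Equiv.optionCongr σ.1, hmem σ.1 σ.2⟩
           invFun := fun g => ⟨Equiv.removeNone g.1, hmem' g.1 g.2⟩
           left_inv := fun σ => Subtype.ext (Equiv.removeNone_optionCongr σ.1)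
           right_inv := fun g => Subtype.ext (hcong g.1 g.2.2)
           map_mul' := fun σ τ => Subtype.ext (Equiv.ext fun x => by cases x <;> rfl) },
    fun σ a => rfl⟩

end Cfsg.Agent.Lib.Steiner
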