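import Cfsg.Agent.Lib.Steiner.W12
import Cfsg.Agent.Lib.Golay.Counts
import Cfsg.Agent.Lib.Golay.Mathieu

/-! # S(5,6,12) and S(4,5,11): uniqueness and automorphisms -/

set_option autoImplicit false
set_option maxRecDepth 100000

namespace Cfsg.Agent.Lib.Steiner

open Finset Cfsg Cfsg.Agent.Lib.Golay
open scoped Pointwise

variable {α : Type*} [Fintype α] [DecidableEq α] {B : Set (Finset α)}

theorem compl_mem12 (hα : Fintype.card α = 12) (hB : IsSteinerSystem 5 6 B) {b : Finset α}
    (hb : b ∈ B) : bᶜ ∈ B := by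
  classical
  have h := meet12 hα hB hb
  obtain ⟨c, hc⟩ := Finset.card_pos.1 (show 0 < (((blocks B).erase b).filter
    fun c => (b ∩ c).card = 0).card by rw [meetCard] at h; omega)
  simp only [Finset.mem_filter, Finset.mem_erase, mem_blocks, Finset.card_eq_zero] at hc
  have hsub : c ⊆ bᶜ := fun x hx => Finset.mem_compl.2 fun hxb =>
    Finset.notMem_empty x (hc.2 ▸ Finset.mem_inter.2 ⟨hxb, hx⟩)
  have he : c = bᶜ := Finset.eq_of_subset_of_card_le hsub (by
    rw [Finset.card_compl, hα, hB.1 b hb, hB.1 c hc.1.2])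
  exact he ▸ hc.1.2

omit [Fintype α] in
theorem steiner_image {β : Type*} [DecidableEq β] {t k : ℕ} (hB : IsSteinerSystem t k B)
    (e : α ≃ β) : IsSteinerSystem t k ((fun b => b.image e) '' B) := by
  refine ⟨?_, fun s hs => ?_⟩
  · rintro _ ⟨b, hb, rfl⟩
    rw [Finset.card_image_of_injective _ e.injective, hB.1 b hb]
  obtain ⟨b, ⟨hb, hsb⟩, huniq⟩ := hB.2 (s.image e.symm)
    (by rw [Finset.card_image_of_injective _ e.symm.injective, hs])
  refine ⟨b.image e, ⟨⟨b, hb, rfl⟩, ?_⟩, ?_⟩
  · have := Finset.image_subset_image (f := e) hsb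
    rwa [Finset.image_image, e.self_comp_symm, Finset.image_id] at this
  · rintro _ ⟨⟨c, hc, rfl⟩, hsc⟩
    have := Finset.image_subset_image (f := e.symm) hsc
    simp only [Finset.image_image, e.symm_comp_self, Finset.image_id] at this
    show c.image e = b.image e
    rw [huniq c ⟨hc, this⟩]

/-- A further relabelling. -/
theorem relabel {e : α ≃ Fin 12} {f : Fin 12 → Fin 12} (hf : Function.Injective f)
    {s : Finset (Fin 12)} (h : s.image f ∈ (fun b : Finset α => b.image e) '' B) :
    s ∈ (fun b : Finset α => b.image (e.trans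
      (Equiv.ofBijective f ⟨hf, Finite.surjective_of_injective hf⟩).symm)) '' B := by
  obtain ⟨b, hb, hbe⟩ := h
  refine ⟨b, hb, ?_⟩
  simp only at hbe ⊢
  rw [Equiv.coe_trans, ← Finset.image_image, hbe, Finset.image_image]
  conv_rhs => rw [← Finset.image_id (s := s)]
  refine Finset.image_congr fun i _ => ?_
  exact (Equiv.ofBijective f ⟨hf, Finite.surjective_of_injective hf⟩).symm_apply_apply i

theorem fix_of_inv {f : Fin 12 → Fin 12} (hf : Function.Injective f) {i : Fin 12} (h : f i = i) :
    (Equiv.ofBijective f ⟨hf, Finite.surjective_of_injective hf⟩).symm i = i :=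
  (Equiv.symm_apply_eq _).2 h.symm

/-- Every system is the standard one, three given points becoming the distinguished ones. -/
theorem iso_model12 (hα : Fintype.card α = 12) (hB : IsSteinerSystem 5 6 B) {a b c : α}
    (hab : a ≠ b) (hac : a ≠ c) (hbc : b ≠ c) :
    ∃ e : α ≃ Fin 12, (fun s => s.image e) '' B = W12.model ∧
      9 ≤ (e a : ℕ) ∧ 9 ≤ (e b : ℕ) ∧ 9 ≤ (e c : ℕ) := by
  obtain ⟨e₀, ha, hb, hc⟩ : ∃ e : α ≃ Fin 12, e a = 9 ∧ e b = 10 ∧ e c = 11 := by
    let e := Fintype.equivFinOfCardEq hα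
    let e1 := e.trans (Equiv.swap (e a) 9)
    let e2 := e1.trans (Equiv.swap (e1 b) 10)
    have h1 : e1 a = 9 := by simp [e1]
    have h2b : e2 b = 10 := by simp [e2]
    have h2a : e2 a = 9 := by
      show Equiv.swap (e1 b) 10 (e1 a) = 9
      rw [h1, Equiv.swap_apply_of_ne_of_ne
        (fun h => hab (e1.injective (h1.trans h))) (by decide)]
    refine ⟨e2.trans (Equiv.swap (e2 c) 11), ?_, ?_, by simp⟩
    · show Equiv.swap (e2 c) 11 (e2 a) = 9
      rw [h2a, Equiv.swap_apply_of_ne_of_ne
        (fun h => hac (e2.injective (h2a.trans h))) (by decide)]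
    · show Equiv.swap (e2 c) 11 (e2 b) = 10
      rw [h2b, Equiv.swap_apply_of_ne_of_ne
        (fun h => hbc (e2.injective (h2b.trans h))) (by decide)]
  obtain ⟨f, hf, ⟨f9, f10, f11⟩, h0⟩ := W12.exists_top0 (steiner_image hB e₀)
  set e₁ := e₀.trans (Equiv.ofBijective f ⟨hf, Finite.surjective_of_injective hf⟩).symm with he₁
  have h0' : ∀ l ∈ W12.top0, W12.ofMask l ∈ (fun s : Finset α => s.image e₁) '' B := fun l hl =>
    relabel hf (by rw [← W12.ofMask_img]; exact h0 l hl)
  obtain ⟨g, hg, ⟨g9, g10, g11⟩, h1⟩ := W12.exists_top (steiner_image hB e₁) h0'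
  set e₂ := e₁.trans (Equiv.ofBijective g ⟨hg, Finite.surjective_of_injective hg⟩).symm with he₂
  have h1' : ∀ l ∈ W12.top, W12.ofMask l ∈ (fun s : Finset α => s.image e₂) '' B := fun l hl =>
    relabel hg (by rw [← W12.ofMask_img]; exact h1 l hl)
  obtain ⟨k, hk, hk9, h2⟩ := W12.exists_full (steiner_image hB e₂)
    (fun s hs => compl_mem12 (Fintype.card_fin 12) (steiner_image hB e₂) hs) h1'
  set K := Equiv.ofBijective k ⟨hk, Finite.surjective_of_injective hk⟩ with hK
  set e₃ := e₂.trans K.symm with he₃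
  have hB3 := steiner_image hB e₃
  have key := image_eq_of_le W12.model_steiner (Equiv.refl _)
    (fun s hs => by rw [Equiv.coe_refl, Finset.image_id]; exact relabel hk (h2 s hs))
    (by norm_num) hB3.1 fun s hs s' hs' h => eq_of_common hB3 hs hs' h
  simp only [Equiv.coe_refl, Finset.image_id, Set.image_id'] at key
  have hout : ∀ i : Fin 12, 9 ≤ (i : ℕ) → 9 ≤ (K.symm i : ℕ) := by
    intro i hi
    by_contra hlt
    push Not at hlt
    have h := hk9 _ hlt
    have : k (K.symm i) = i := K.apply_symm_apply i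
    rw [h] at this
    rw [this] at hlt
    omega
  have hfix : ∀ i : Fin 12, f i = i → g i = i → e₂ (e₀.symm i) = i := by
    intro i h h'
    show (Equiv.ofBijective g ⟨hg, Finite.surjective_of_injective hg⟩).symm
      ((Equiv.ofBijective f ⟨hf, Finite.surjective_of_injective hf⟩).symm (e₀ (e₀.symm i))) = i
    rw [e₀.apply_symm_apply, fix_of_inv hf h, fix_of_inv hg h']
  refine ⟨e₃, key.symm, hout _ ?_, hout _ ?_, hout _ ?_⟩
  · rw [(e₀.symm_apply_eq.2 ha.symm).symm, hfix 9 f9 g9]; decide
  · rw [(e₀.symm_apply_eq.2 hb.symm).symm, hfix 10 f10 g10]; decide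
  · rw [(e₀.symm_apply_eq.2 hc.symm).symm, hfix 11 f11 g11]; decide

/-! ### Only the identity fixes five points -/

theorem third_all : ((List.finRange 12).all fun a => (List.finRange 12).all fun b =>
    (List.finRange 12).all fun c => !(Nat.blt (a : ℕ) 9 && Nat.blt (b : ℕ) 9 && Nat.blt (c : ℕ) 9 &&
      !(Nat.beq a b) && !(Nat.beq a c) && !(Nat.beq b c) &&
      W12.top.any fun m => m.testBit a && m.testBit b && m.testBit c) ||
      Nat.beq (W12.third W12.top a b) c) = true := by
  decide +kernel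

theorem third_top (a b c : Fin 12) (ha : (a : ℕ) < 9) (hb : (b : ℕ) < 9) (hc : (c : ℕ) < 9)
    (hab : a ≠ b) (hac : a ≠ c) (hbc : b ≠ c) (m : ℕ) (hm : m ∈ W12.top)
    (h1 : m.testBit a = true) (h2 : m.testBit b = true) (h3 : m.testBit c = true) :
    W12.third W12.top a b = c := by
  have h := third_all
  simp only [List.all_eq_true] at h
  have h' := h a (List.mem_finRange a) b (List.mem_finRange b) c (List.mem_finRange c)
  simp only [Bool.or_eq_true, Bool.not_eq_true', Bool.and_eq_false_iff, Nat.beq_eq] at h'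
  rcases h' with h' | h'
  · exfalso
    have hA : Nat.blt (a : ℕ) 9 = true := Nat.ble_eq.mpr ha
    have hB : Nat.blt (b : ℕ) 9 = true := Nat.ble_eq.mpr hb
    have hC : Nat.blt (c : ℕ) 9 = true := Nat.ble_eq.mpr hc
    simp [hA, hB, hC, Fin.val_inj, hab, hac, hbc] at h'
    simpa [h1, h2, h3] using h' m hm
  · exact h'

theorem top_of_three : ∀ m ∈ std12, m.testBit 9 = true → m.testBit 10 = true →
    m.testBit 11 = true → m ∈ W12.top := by
  decide +kernel

theorem top_sub : ∀ m ∈ W12.top, m.testBit 9 = true ∧ m.testBit 10 = true ∧ m.testBit 11 = true := by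
  decide +kernel

/-- The check that only the identity fixes the three distinguished points and two more. -/
def rigidAt (x y z : ℕ) : Bool :=
  let f := W12.ofList (W12.frame W12.top x y z)
  !(Nat.ble 2 (((List.finRange 12).filter fun i : Fin 12 => Nat.blt (i : ℕ) 9 && Nat.beq (f i : ℕ) i).length) &&
      decide (Function.Injective f) && std12.all fun m => std12.elem (W12.img f m)) ||
    (List.finRange 12).all fun i : Fin 12 => Nat.beq (f i : ℕ) i

theorem rigid_all : ((List.range 9).all fun x => (List.range 9).all fun y =>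
    (List.range 9).all fun z => rigidAt x y z) = true := by
  decide +kernel

theorem model_rigid {τ : Equiv.Perm (Fin 12)} (hτ : τ ∈ setSystemAut W12.model)
    (hfix : ∀ i : Fin 12, 9 ≤ (i : ℕ) → τ i = i) {p q : Fin 12} (hp : (p : ℕ) < 9)
    (hq : (q : ℕ) < 9) (hpq : p ≠ q) (hτp : τ p = p) (hτq : τ q = q) : τ = 1 := by
  have hlow : ∀ i : Fin 12, (i : ℕ) < 9 → (τ i : ℕ) < 9 := by
    intro i hi
    by_contra hge
    push Not at hge
    have := τ.injective (hfix _ hge)
    rw [this] at hge
    omega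
  have hstd : ∀ m ∈ std12, W12.img τ m ∈ std12 := by
    intro m hm
    obtain ⟨m', hm', he⟩ := mem_aut_image hτ (show W12.ofMask m ∈ W12.model from ⟨m, hm, rfl⟩)
    rw [← W12.ofMask_img] at he
    rwa [← W12.ofMask_inj (W12.mem_sixes.1 (W12.std12_six m' hm')).1 (W12.img_lt _ _) he]
  have hbit : ∀ m (i : Fin 12), m.testBit i = true → (W12.img τ m).testBit (τ i) = true := by
    intro m i hi
    rw [← W12.mem_ofMask, W12.ofMask_img]
    exact Finset.mem_image_of_mem _ (W12.mem_ofMask.2 hi)
  have hline : ∀ a b c : Fin 12, ∀ m ∈ W12.top, m.testBit a = true → m.testBit b = true →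
      m.testBit c = true → (a : ℕ) < 9 → (b : ℕ) < 9 → (c : ℕ) < 9 → a ≠ b → a ≠ c → b ≠ c →
        W12.third W12.top (τ a) (τ b) = (τ c : ℕ) := by
    intro a b c m hm h1 h2 h3 ha hb hc hab hac hbc
    obtain ⟨t9, t10, t11⟩ := top_sub m hm
    refine third_top _ _ _ (hlow a ha) (hlow b hb) (hlow c hc) (τ.injective.ne hab)
      (τ.injective.ne hac) (τ.injective.ne hbc) _
      (top_of_three _ (hstd m (W12.top_line m hm).1) ?_ ?_ ?_)
      (hbit m a h1) (hbit m b h2) (hbit m c h3)
    · have := hbit m 9 t9; rwa [hfix 9 (by decide)] at this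
    · have := hbit m 10 t10; rwa [hfix 10 (by decide)] at this
    · have := hbit m 11 t11; rwa [hfix 11 (by decide)] at this
  have e2 := hline 0 1 2 3591 (by decide +kernel) (by decide) (by decide) (by decide)
    (by decide) (by decide) (by decide) (by decide) (by decide) (by decide)
  have e6 := hline 0 3 6 3657 (by decide +kernel) (by decide) (by decide) (by decide)
    (by decide) (by decide) (by decide) (by decide) (by decide) (by decide)
  have e8 := hline 1 3 8 3850 (by decide +kernel) (by decide) (by decide) (by decide)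
    (by decide) (by decide) (by decide) (by decide) (by decide) (by decide)
  have e7 := hline 2 3 7 3724 (by decide +kernel) (by decide) (by decide) (by decide)
    (by decide) (by decide) (by decide) (by decide) (by decide) (by decide)
  have e4 := hline 0 8 4 3857 (by decide +kernel) (by decide) (by decide) (by decide)
    (by decide) (by decide) (by decide) (by decide) (by decide) (by decide)
  have e5 := hline 3 4 5 3640 (by decide +kernel) (by decide) (by decide) (by decide)
    (by decide) (by decide) (by decide) (by decide) (by decide) (by decide)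
  have hf : W12.ofList (W12.frame W12.top (τ 0) (τ 1) (τ 3)) = τ := by
    funext i
    refine Fin.ext ?_
    have h12 : (τ i : ℕ) % 12 = τ i := Nat.mod_eq_of_lt (τ i).isLt
    simp only [W12.ofList, W12.frame, e2, e6, e8, e7, e4, e5]
    fin_cases i
    all_goals first
      | exact h12
      | simp [hfix 9 (by decide), hfix 10 (by decide), hfix 11 (by decide)]
  have hr := List.all_eq_true.1 (List.all_eq_true.1 (List.all_eq_true.1 rigid_all (τ 0 : ℕ)
    (List.mem_range.2 (hlow 0 (by decide)))) (τ 1 : ℕ) (List.mem_range.2 (hlow 1 (by decide))))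
    (τ 3 : ℕ) (List.mem_range.2 (hlow 3 (by decide)))
  simp only [rigidAt, hf, Bool.or_eq_true, Bool.not_eq_true'] at hr
  rcases hr with hr | hr
  · exfalso
    have hlen : 2 ≤ ((List.finRange 12).filter
        fun i : Fin 12 => Nat.blt (i : ℕ) 9 && Nat.beq (τ i : ℕ) i).length := by
      have hnd : ([p, q] : List (Fin 12)).Nodup := by simp [hpq]
      have hsub : ([p, q] : List (Fin 12)) ⊆
          (List.finRange 12).filter fun i : Fin 12 => Nat.blt (i : ℕ) 9 && Nat.beq (τ i : ℕ) i := by
        intro i hi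
        simp only [List.mem_cons, List.not_mem_nil, or_false] at hi
        rcases hi with rfl | rfl <;> simp [hp, hq, hτp, hτq]
      exact (hnd.subperm hsub).length_le
    have hall : (std12.all fun m => std12.elem (W12.img τ m)) = true := by
      simp only [List.all_eq_true, List.elem_iff]; exact hstd
    rw [hall, Nat.ble_eq.mpr hlen, decide_eq_true τ.injective] at hr
    simp at hr
  · ext i
    simp only [List.all_eq_true, Nat.beq_eq] at hr
    simpa using hr i (List.mem_finRange i)

/-- An automorphism of an S(5,6,12) fixing five points is the identity. -/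
theorem fix_five (hα : Fintype.card α = 12) (hB : IsSteinerSystem 5 6 B) {σ : Equiv.Perm α}
    (hσ : σ ∈ setSystemAut B) (x : Fin 5 ↪ α) (h : ∀ i, σ (x i) = x i) : σ = 1 := by
  obtain ⟨e, he, h0, h1, h2⟩ := iso_model12 hα hB (a := x 0) (b := x 1) (c := x 2)
    (x.injective.ne (by decide)) (x.injective.ne (by decide)) (x.injective.ne (by decide))
  have hτ : e.permCongr σ ∈ setSystemAut W12.model := by
    refine mem_aut_of_le fun s hs => ?_
    rw [← he] at hs ⊢
    obtain ⟨b, hb, rfl⟩ := hs
    refine ⟨b.image σ, mem_aut_image hσ hb, ?_⟩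
    simp only [Finset.image_image]
    refine Finset.image_congr fun a _ => ?_
    simp
  have hne : ∀ i j : Fin 5, i ≠ j → (e (x i) : ℕ) ≠ e (x j) := fun i j hij h =>
    hij (x.injective (e.injective (Fin.ext h)))
  have hτx : ∀ i, e.permCongr σ (e (x i)) = e (x i) := fun i => by simp [h i]
  have hlt : ∀ i, (e (x i) : ℕ) < 12 := fun i => (e (x i)).isLt
  have hfix : ∀ j : Fin 12, 9 ≤ (j : ℕ) → e.permCongr σ j = j := by
    intro j hj
    have := hne 0 1 (by decide)
    have := hne 0 2 (by decide)
    have := hne 1 2 (by decide)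
    have := j.isLt
    have := hlt 0
    have := hlt 1
    have := hlt 2
    have hcase : (j : ℕ) = e (x 0) ∨ (j : ℕ) = e (x 1) ∨ (j : ℕ) = e (x 2) := by omega
    rcases hcase with hh | hh | hh <;> rw [Fin.ext hh] <;> exact hτx _
  have hlow : ∀ i : Fin 5, i ≠ 0 → i ≠ 1 → i ≠ 2 → (e (x i) : ℕ) < 9 := by
    intro i i0 i1 i2
    have := hne i 0 i0
    have := hne i 1 i1
    have := hne i 2 i2
    have := hne 0 1 (by decide)
    have := hne 0 2 (by decide)
    have := hne 1 2 (by decide)
    have := hlt i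
    have := hlt 0
    have := hlt 1
    have := hlt 2
    omega
  have h1' := model_rigid hτ hfix (hlow 3 (by decide) (by decide) (by decide))
    (hlow 4 (by decide) (by decide) (by decide))
    (fun hh => hne 3 4 (by decide) (congrArg Fin.val hh)) (hτx 3) (hτx 4)
  refine Equiv.ext fun a => e.injective ?_
  simpa using DFunLike.congr_fun h1' (e a)

theorem aut12_card_le (hα : Fintype.card α = 12) (hB : IsSteinerSystem 5 6 B) :
    Nat.card (setSystemAut B) ≤ 95040 := by
  obtain ⟨x⟩ := Function.Embedding.nonempty_of_card_le (α := Fin 5) (β := α)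
    (by rw [hα, Fintype.card_fin]; norm_num)
  have hinj : Function.Injective
      fun σ : setSystemAut B => x.trans (σ : Equiv.Perm α).toEmbedding := by
    intro σ τ hst
    have := fix_five hα hB (mul_mem (inv_mem τ.2) σ.2) x fun i => by
      have hi : (σ : Equiv.Perm α) (x i) = (τ : Equiv.Perm α) (x i) := DFunLike.congr_fun hst i
      rw [Equiv.Perm.mul_apply, hi, Equiv.Perm.inv_def, Equiv.symm_apply_apply]
    exact Subtype.ext (inv_mul_eq_one.1 this).symm
  refine (Nat.card_le_card_of_injective _ hinj).trans_eq ?_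
  rw [Nat.card_eq_fintype_card, Fintype.card_embedding_eq, hα, Fintype.card_fin]
  decide

/-! ### The hexads of a dodecad -/

/-- The hexads cut on a dodecad. -/
def hexOn (d : Finset GolayPt) : Set (Finset {p : GolayPt // p ∈ d}) :=
  {h | ∃ o ∈ octads, (o ∩ d).card = 6 ∧ h = Finset.subtype (fun p => p ∈ d) o}

theorem card_dod {d : Finset GolayPt} (hd : d ∈ dodecads) :
    Fintype.card {p : GolayPt // p ∈ d} = 12 := by
  rw [Fintype.card_coe, dodecads_card hd]

/-- Restriction of the dodecad stabiliser. -/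
def resDod (d : Finset GolayPt) : stSet d →* Equiv.Perm {p : GolayPt // p ∈ d} where
  toFun g := g.1.subtypePerm fun p => by
    have h := MulAction.mem_stabilizer_iff.1 g.2.2
    exact (iff_of_eq (congrArg (fun s => g.1 p ∈ s) h.symm)).trans
      (Finset.smul_mem_smul_finset_iff g.1)
  map_one' := Equiv.ext fun _ => rfl
  map_mul' _ _ := Equiv.ext fun _ => rfl

theorem resDod_mem {d : Finset GolayPt} (g : stSet d) : resDod d g ∈ setSystemAut (hexOn d) := by
  refine mem_aut_of_le fun h hh => ?_
  obtain ⟨o, ho, h6, rfl⟩ := hh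
  have hd : g.1 • d = d := MulAction.mem_stabilizer_iff.1 g.2.2
  refine ⟨g.1 • o, smul_mem_octads g.2.1 ho, ?_, ?_⟩
  · have e : g.1 • o ∩ d = g.1 • (o ∩ d) := by
      rw [Finset.smul_finset_inter, hd]
    rw [e, Finset.card_smul_finset, h6]
  · ext p
    simp only [Finset.mem_image, Finset.mem_subtype, Finset.mem_smul_finset, Equiv.Perm.smul_def]
    constructor
    · rintro ⟨q, hq, rfl⟩; exact ⟨q.1, hq, rfl⟩
    · rintro ⟨y, hy, he⟩
      have hyd : y ∈ d := (Finset.smul_mem_smul_finset_iff g.1).1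
        (by rw [hd, Equiv.Perm.smul_def, he]; exact p.2)
      exact ⟨⟨y, hyd⟩, hy, Subtype.ext he⟩

/-- The automorphisms of the hexads of a dodecad are its stabiliser. -/
theorem autEquiv12 {d : Finset GolayPt} (hd : d ∈ dodecads) :
    ∃ E : stSet d ≃* setSystemAut (hexOn d), ∀ g (p : {p : GolayPt // p ∈ d}),
      (((E g : Equiv.Perm {p : GolayPt // p ∈ d}) p).1 : GolayPt) = (g : Equiv.Perm GolayPt) p := by
  let φ : stSet d →* setSystemAut (hexOn d) := (resDod d).codRestrict _ resDod_mem
  obtain ⟨x⟩ := Function.Embedding.nonempty_of_card_le (α := Fin 5) (β := {p : GolayPt // p ∈ d})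
    (by rw [card_dod hd, Fintype.card_fin]; norm_num)
  let x' : Fin 5 ↪ GolayPt := x.trans (Function.Embedding.subtype _)
  have hinj : Function.Injective φ := by
    refine (injective_iff_map_eq_one φ).2 fun g hg => ?_
    obtain ⟨h, -, huniq⟩ := stSet_sharp hd x' x' (fun i => (x i).2) fun i => (x i).2
    exact (huniq g fun i => congrArg Subtype.val
      (DFunLike.congr_fun (congrArg Subtype.val hg) (x i))).trans (huniq 1 fun _ => rfl).symm
  have hcard : Nat.card (setSystemAut (hexOn d)) ≤ Nat.card (stSet d) := by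
    rw [stSet_dodecad_card hd]
    exact aut12_card_le (card_dod hd) (Golay.dodecad_hexads hd)
  exact ⟨MulEquiv.ofBijective φ (hinj.bijective_of_nat_card_le hcard), fun g p => rfl⟩

theorem hexOn_five {d : Finset GolayPt} (hd : d ∈ dodecads) :
    MulAction.IsMultiplyPretransitive (setSystemAut (hexOn d)) {p : GolayPt // p ∈ d} 5 := by
  rw [MulAction.isMultiplyPretransitive_iff]
  intro x y
  obtain ⟨σ, hσ, he⟩ := stSet_five hd (fun i => (x i).1) (fun i => (y i).1)
    (Subtype.val_injective.comp x.injective) (Subtype.val_injective.comp y.injective)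
    (fun i => (x i).2) fun i => (y i).2
  obtain ⟨E, hE⟩ := autEquiv12 hd
  exact ⟨E ⟨σ, hσ⟩, DFunLike.ext _ _ fun i => Subtype.ext ((hE ⟨σ, hσ⟩ (x i)).trans (he i))⟩

theorem iso12 {β : Type*} [Fintype β] [DecidableEq β] {B' : Set (Finset β)}
    (hα : Fintype.card α = 12) (hB : IsSteinerSystem 5 6 B)
    (hβ : Fintype.card β = 12) (hB' : IsSteinerSystem 5 6 B') : SetSystemIso B B' := by
  obtain ⟨x⟩ := Function.Embedding.nonempty_of_card_le (α := Fin 3) (β := α)
    (by rw [hα, Fintype.card_fin]; norm_num)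
  obtain ⟨y⟩ := Function.Embedding.nonempty_of_card_le (α := Fin 3) (β := β)
    (by rw [hβ, Fintype.card_fin]; norm_num)
  obtain ⟨e, he, -⟩ := iso_model12 hα hB (x.injective.ne (by decide : (0 : Fin 3) ≠ 1))
    (x.injective.ne (by decide : (0 : Fin 3) ≠ 2)) (x.injective.ne (by decide : (1 : Fin 3) ≠ 2))
  obtain ⟨e', he', -⟩ := iso_model12 hβ hB' (y.injective.ne (by decide : (0 : Fin 3) ≠ 1))
    (y.injective.ne (by decide : (0 : Fin 3) ≠ 2)) (y.injective.ne (by decide : (1 : Fin 3) ≠ 2))
  exact setSystemIso_trans' ⟨e, he⟩ ⟨e', he'⟩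

/-- The dodecad of reference. -/
theorem exists_dodecad : ∃ d, d ∈ dodecads :=
  Set.nonempty_of_ncard_ne_zero (by rw [dodecads_ncard]; decide)

theorem aut12_five (hα : Fintype.card α = 12) (hB : IsSteinerSystem 5 6 B) :
    MulAction.IsMultiplyPretransitive (setSystemAut B) α 5 := by
  obtain ⟨d, hd⟩ := exists_dodecad
  obtain ⟨e, E, hE⟩ := exists_autEquiv (iso12 hα hB (card_dod hd) (Golay.dodecad_hexads hd))
  exact pretransitive_transfer e E hE (hexOn_five hd)

theorem aut12_equiv (hα : Fintype.card α = 12) (hB : IsSteinerSystem 5 6 B) {d : Finset GolayPt}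
    (hd : d ∈ dodecads) : Nonempty (setSystemAut B ≃* stSet d) := by
  obtain ⟨e, E, -⟩ := exists_autEquiv (iso12 hα hB (card_dod hd) (Golay.dodecad_hexads hd))
  obtain ⟨F, -⟩ := autEquiv12 hd
  exact ⟨E.trans F.symm⟩

/-! ### S(4,5,11) through its extension -/

/-- The extension: the blocks with a new point and their complements. -/
def ext11 (B : Set (Finset α)) : Set (Finset (Option α)) :=
  {h | ∃ b ∈ B, h = up b ∨ h = (up b)ᶜ}

theorem none_block11 {h : Finset (Option α)} (hh : h ∈ ext11 B) (hn : none ∈ h) :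
    ∃ b ∈ B, h = up b := by
  obtain ⟨b, hb, rfl | rfl⟩ := hh
  · exact ⟨b, hb, rfl⟩
  · exact absurd hn (by simp [mem_up_none])

theorem mem_of_up11 {b : Finset α} (h : up b ∈ ext11 B) : b ∈ B := by
  obtain ⟨c, hc, he⟩ := none_block11 h mem_up_none
  exact Finset.insertNone.injective he ▸ hc

theorem compl_up (b : Finset α) : (up b)ᶜ = bᶜ.map Function.Embedding.some := by
  ext x
  rcases x with _ | a
  · simp [mem_up_none]
  · simp [mem_up_some]

theorem disjoint_blocks11 (hα : Fintype.card α = 11) (hB : IsSteinerSystem 4 5 B) {s : Finset α}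
    (hs : s.card = 5) : Code24.meets B s 0 + Code24.meets B s 5 = 1 := by
  have m0 := Code24.moment_eq hB s (i := 0) (lam := 66) (by norm_num) (by norm_num) (by rw [hα]; decide)
  have m1 := Code24.moment_eq hB s (i := 1) (lam := 30) (by norm_num) (by norm_num) (by rw [hα]; decide)
  have m2 := Code24.moment_eq hB s (i := 2) (lam := 12) (by norm_num) (by norm_num) (by rw [hα]; decide)
  have m3 := Code24.moment_eq hB s (i := 3) (lam := 4) (by norm_num) (by norm_num) (by rw [hα]; decide)
  have m4 := Code24.moment_eq hB s (i := 4) (lam := 1) (by norm_num) (by norm_num) (by rw [hα]; decide)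
  simp only [Nat.reduceAdd, Finset.sum_range_succ, Finset.sum_range_zero, hs] at m0 m1 m2 m3 m4
  norm_num [Nat.choose] at m0 m1 m2 m3 m4
  omega

theorem ext11_steiner (hα : Fintype.card α = 11) (hB : IsSteinerSystem 4 5 B) :
    IsSteinerSystem 5 6 (ext11 B) := by
  classical
  refine ⟨?_, fun S hS => ?_⟩
  · rintro h ⟨b, hb, rfl | rfl⟩
    · rw [card_up, hB.1 b hb]
    · rw [Finset.card_compl, card_up, hB.1 b hb, Fintype.card_option, hα]
  have hc := card_eraseNone' S
  by_cases hn : none ∈ S
  · rw [if_pos hn] at hc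
    obtain ⟨b, ⟨hb, hsb⟩, huniq⟩ := hB.2 (Finset.eraseNone S) (by omega)
    refine ⟨up b, ⟨⟨b, hb, Or.inl rfl⟩, fun x hx => ?_⟩, fun h hh => ?_⟩
    · rcases x with _ | a
      · exact mem_up_none
      · exact mem_up_some.2 (hsb (Finset.mem_eraseNone.2 hx))
    · obtain ⟨c, hc', rfl⟩ := none_block11 hh.1 (hh.2 hn)
      rw [huniq c ⟨hc', fun a ha => mem_up_some.1 (hh.2 (Finset.mem_eraseNone.1 ha))⟩]
  · rw [if_neg hn] at hc
    set s := Finset.eraseNone S with hs
    have hmeet := disjoint_blocks11 hα hB (s := s) (by omega)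
    have h1 : ∀ b : Finset α, S ⊆ up b ↔ s ⊆ b := fun b =>
      ⟨fun h a ha => mem_up_some.1 (h (Finset.mem_eraseNone.1 ha)), fun h x hx => by
        rcases x with _ | a
        · exact mem_up_none
        · exact mem_up_some.2 (h (Finset.mem_eraseNone.2 hx))⟩
    have h2 : ∀ b : Finset α, S ⊆ (up b)ᶜ ↔ (s ∩ b).card = 0 := fun b => by
      rw [Finset.card_eq_zero, Finset.eq_empty_iff_forall_notMem]
      constructor
      · intro h a ha
        rw [Finset.mem_inter] at ha
        exact Finset.mem_compl.1 (h (Finset.mem_eraseNone.1 ha.1)) (mem_up_some.2 ha.2)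
      · intro h x hx
        rcases x with _ | a
        · exact absurd hx hn
        · rw [Finset.mem_compl, mem_up_some]
          exact fun hab => h a (Finset.mem_inter.2 ⟨Finset.mem_eraseNone.2 hx, hab⟩)
    have h5 : ∀ b ∈ B, s ⊆ b ↔ (s ∩ b).card = 5 := fun b _ =>
      ⟨fun h => by rw [Finset.inter_eq_left.2 h]; omega,
        fun h => Finset.inter_eq_left.1 (Finset.eq_of_subset_of_card_le Finset.inter_subset_left
          (by omega))⟩
    have hwit : ∀ j, Code24.meets B s j ≤ 1 → ∀ b ∈ B, ∀ c ∈ B, (s ∩ b).card = j →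
        (s ∩ c).card = j → b = c := fun j hj b hb c hc eb ec =>
      Finset.card_le_one.1 hj b (Finset.mem_filter.2 ⟨mem_blocks.2 hb, eb⟩) c
        (Finset.mem_filter.2 ⟨mem_blocks.2 hc, ec⟩)
    have hzero : ∀ j, Code24.meets B s j = 0 → ∀ b ∈ B, (s ∩ b).card ≠ j := fun j hj b hb e => by
      have : b ∈ ((blocks B).filter fun c => (s ∩ c).card = j) :=
        Finset.mem_filter.2 ⟨mem_blocks.2 hb, e⟩
      rw [Code24.meets, Finset.card_eq_zero] at hj
      rw [hj] at this
      exact Finset.notMem_empty _ this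
    rcases (show Code24.meets B s 0 = 1 ∧ Code24.meets B s 5 = 0 ∨
        Code24.meets B s 0 = 0 ∧ Code24.meets B s 5 = 1 by omega) with ⟨hA, hZ⟩ | ⟨hZ, hA⟩
    · obtain ⟨b, hb⟩ := Finset.card_pos.1 (show 0 < Code24.meets B s 0 by omega)
      obtain ⟨hb', hb0⟩ := Finset.mem_filter.1 hb
      refine ⟨(up b)ᶜ, ⟨⟨b, mem_blocks.1 hb', Or.inr rfl⟩, (h2 b).2 hb0⟩, ?_⟩
      rintro _ ⟨⟨c, hc, rfl | rfl⟩, hsc⟩
      · exact absurd ((h5 c hc).1 ((h1 c).1 hsc)) (hzero 5 hZ c hc)
      · rw [hwit 0 (by omega) c hc b (mem_blocks.1 hb') ((h2 c).1 hsc) hb0]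
    · obtain ⟨b, hb⟩ := Finset.card_pos.1 (show 0 < Code24.meets B s 5 by omega)
      obtain ⟨hb', hb5⟩ := Finset.mem_filter.1 hb
      refine ⟨up b, ⟨⟨b, mem_blocks.1 hb', Or.inl rfl⟩,
        (h1 b).2 ((h5 b (mem_blocks.1 hb')).2 hb5)⟩, ?_⟩
      rintro _ ⟨⟨c, hc, rfl | rfl⟩, hsc⟩
      · rw [hwit 5 (by omega) c hc b (mem_blocks.1 hb') ((h5 c hc).1 ((h1 c).1 hsc)) hb5]
      · exact absurd ((h2 c).1 hsc) (hzero 0 hZ c hc)

theorem card_opt11 (hα : Fintype.card α = 11) : Fintype.card (Option α) = 12 := by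
  rw [Fintype.card_option, hα]

theorem iso11 {β : Type*} [Fintype β] [DecidableEq β] {B' : Set (Finset β)}
    (hα : Fintype.card α = 11) (hB : IsSteinerSystem 4 5 B)
    (hβ : Fintype.card β = 11) (hB' : IsSteinerSystem 4 5 B') : SetSystemIso B B' := by
  obtain ⟨e, he⟩ := iso12 (card_opt11 hα) (ext11_steiner hα hB) (card_opt11 hβ) (ext11_steiner hβ hB')
  have h5 := aut12_five (card_opt11 hβ) (ext11_steiner hβ hB')
  have h1 : MulAction.IsMultiplyPretransitive (setSystemAut (ext11 B')) (Option β) 1 :=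
    MulAction.isMultiplyPretransitive_of_le (n := 5) (by norm_num)
      (by rw [Nat.card_eq_fintype_card, card_opt11 hβ]; norm_num)
  obtain ⟨σ, hσ⟩ := (MulAction.isMultiplyPretransitive_iff (G := setSystemAut (ext11 B'))
    (α := Option β) (n := 1)).1 h1 ⟨fun _ => e none, Function.injective_of_subsingleton _⟩
      ⟨fun _ => none, Function.injective_of_subsingleton _⟩
  set f := e.trans (σ : Equiv.Perm (Option β)) with hf
  have hfn : f none = none := DFunLike.congr_fun hσ 0
  refine ⟨Equiv.removeNone f, image_eq_of_le hB _ (fun b hb => mem_of_up11 ?_) (by norm_num) hB'.1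
    fun b hb c hc h => eq_of_common hB' hb hc h⟩
  rw [← up_image f hfn, hf, Equiv.coe_trans, ← Finset.image_image]
  exact mem_aut_image σ.2 (he ▸ ⟨up b, ⟨b, hb, Or.inl rfl⟩, rfl⟩)

omit [Fintype α] in
theorem mem_aut_option {B : Set (Finset α)} [Fintype α] {σ : Equiv.Perm α} :
    σ ∈ setSystemAut B ↔ Equiv.optionCongr σ ∈ setSystemAut (ext11 B) := by
  have hup : ∀ b : Finset α, (up b).image (Equiv.optionCongr σ) = up (b.image σ) := fun b => by
    rw [up_image _ (Equiv.optionCongr_apply σ none), Equiv.removeNone_optionCongr]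
  constructor
  · intro hσ
    refine mem_aut_of_le ?_
    rintro _ ⟨b, hb, rfl | rfl⟩
    · exact ⟨_, mem_aut_image hσ hb, Or.inl (hup b)⟩
    · refine ⟨_, mem_aut_image hσ hb, Or.inr ?_⟩
      rw [← hup, ← smul_perm_finset, ← smul_perm_finset]
      ext x
      simp only [Finset.mem_compl, ← Finset.inv_smul_mem_iff]
  · intro hσ
    refine mem_aut_of_le fun b hb => mem_of_up11 ?_
    rw [← hup]
    exact mem_aut_image hσ ⟨b, hb, Or.inl rfl⟩

theorem aut11_equiv (hα : Fintype.card α = 11) (hB : IsSteinerSystem 4 5 B) :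
    ∃ d ∈ dodecads, ∃ p ∈ d, Nonempty (setSystemAut B ≃* stSetPt d p) := by
  obtain ⟨d, hd⟩ := exists_dodecad
  obtain ⟨e, E, hE⟩ := exists_autEquiv (iso12 (card_opt11 hα) (ext11_steiner hα hB) (card_dod hd)
    (Golay.dodecad_hexads hd))
  obtain ⟨F, hF⟩ := autEquiv12 hd
  set p : {p : GolayPt // p ∈ d} := e none with hp
  let ι : setSystemAut B →* setSystemAut (ext11 B) :=
    { toFun := fun σ => ⟨Equiv.optionCongr σ.1, mem_aut_option.1 σ.2⟩
      map_one' := Subtype.ext (Equiv.ext fun x => by cases x <;> rfl)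
      map_mul' := fun σ τ => Subtype.ext (Equiv.ext fun x => by cases x <;> rfl) }
  let φ : setSystemAut B →* stSet d := ((E.trans F.symm).toMonoidHom).comp ι
  have hφ : Function.Injective φ := (E.trans F.symm).injective.comp fun σ τ h =>
    Subtype.ext (Equiv.optionCongr_injective (congrArg Subtype.val h))
  have hval : ∀ (θ : setSystemAut (ext11 B)),
      ((E.trans F.symm) θ : Equiv.Perm GolayPt) p.1 = (e ((θ : Equiv.Perm (Option α)) none)).1 := by
    intro θ
    have := hF (F.symm (E θ)) p
    have hh : F (F.symm (E θ)) = E θ := F.apply_symm_apply _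
    exact this.symm.trans
      ((congrArg Subtype.val (DFunLike.congr_fun (congrArg Subtype.val hh) p)).trans
        (congrArg Subtype.val (hE θ none)))
  have hrange : φ.range = (stSetPt d p.1).subgroupOf (stSet d) := by
    ext g
    rw [Subgroup.mem_subgroupOf]
    constructor
    · rintro ⟨σ, rfl⟩
      exact ⟨(φ σ).2, (hval (ι σ)).trans rfl⟩
    · rintro ⟨-, hg⟩
      set θ := (E.trans F.symm).symm g with hθ
      have hθn : (θ : Equiv.Perm (Option α)) none = none := by
        apply e.injective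
        refine Subtype.ext ?_
        rw [← hval θ, hθ, MulEquiv.apply_symm_apply]
        exact hg
      have hopt : Equiv.optionCongr (Equiv.removeNone (θ : Equiv.Perm (Option α))) = θ.1 := by
        refine Equiv.ext fun x => ?_
        rcases x with _ | a
        · simp [hθn]
        · rcases hx : (θ : Equiv.Perm (Option α)) (some a) with _ | y
          · exact absurd ((θ : Equiv.Perm (Option α)).injective (hx.trans hθn.symm)) (by simp)
          · simp [hx, hθn]
      refine ⟨⟨Equiv.removeNone θ.1, mem_aut_option.2 (by rw [hopt]; exact θ.2)⟩, ?_⟩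
      show (E.trans F.symm) ⟨_, _⟩ = g
      rw [show (⟨Equiv.optionCongr (Equiv.removeNone θ.1), _⟩ : setSystemAut (ext11 B)) = θ from
        Subtype.ext hopt, hθ, MulEquiv.apply_symm_apply]
  exact ⟨d, hd, p.1, p.2, ⟨(MonoidHom.ofInjective hφ).trans ((MulEquiv.subgroupCongr hrange).trans
    (Subgroup.subgroupOfEquivOfLe inf_le_left))⟩⟩

theorem aut11_four (hα : Fintype.card α = 11) (hB : IsSteinerSystem 4 5 B) :
    MulAction.IsMultiplyPretransitive (setSystemAut B) α 4 := by
  rw [MulAction.isMultiplyPretransitive_iff]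
  intro x y
  obtain ⟨θ, hθ⟩ := (MulAction.isMultiplyPretransitive_iff (G := setSystemAut (ext11 B))
    (α := Option α) (n := 5)).1 (aut12_five (card_opt11 hα) (ext11_steiner hα hB))
      ⟨Fin.cons none fun i => some (x i),
        Fin.cons_injective_iff.2 ⟨by simp, (Option.some_injective _).comp x.injective⟩⟩
      ⟨Fin.cons none fun i => some (y i),
        Fin.cons_injective_iff.2 ⟨by simp, (Option.some_injective _).comp y.injective⟩⟩
  have h0 : (θ : Equiv.Perm (Option α)) none = none := DFunLike.congr_fun hθ 0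
  have hopt : Equiv.optionCongr (Equiv.removeNone (θ : Equiv.Perm (Option α))) = θ.1 := by
    refine Equiv.ext fun z => ?_
    rcases z with _ | a
    · simp [h0]
    · rcases hz : (θ : Equiv.Perm (Option α)) (some a) with _ | w
      · exact absurd ((θ : Equiv.Perm (Option α)).injective (hz.trans h0.symm)) (by simp)
      · simp [hz, h0]
  refine ⟨⟨Equiv.removeNone θ.1, mem_aut_option.2 (by rw [hopt]; exact θ.2)⟩, DFunLike.ext _ _ fun i => ?_⟩
  have h1 : (θ : Equiv.Perm (Option α)) (some (x i)) = some (y i) := by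
    simpa [Subgroup.smul_def] using DFunLike.congr_fun hθ i.succ
  rw [← hopt] at h1
  exact Option.some_injective _ h1

theorem fix_four (hα : Fintype.card α = 11) (hB : IsSteinerSystem 4 5 B) {σ : Equiv.Perm α}
    (hσ : σ ∈ setSystemAut B) (x : Fin 4 ↪ α) (h : ∀ i, σ (x i) = x i) : σ = 1 := by
  have h1 := fix_five (card_opt11 hα) (ext11_steiner hα hB) (mem_aut_option.1 hσ)
    ⟨Fin.cons none fun i => some (x i),
      Fin.cons_injective_iff.2 ⟨by simp, (Option.some_injective _).comp x.injective⟩⟩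
    (fun i => by refine Fin.cases ?_ (fun j => ?_) i <;> simp [h])
  exact Equiv.optionCongr_injective (h1.trans (Equiv.ext fun x => by cases x <;> rfl))

theorem stabilizer_bot {k : ℕ} (hfix : ∀ σ ∈ setSystemAut B, ∀ x : Fin k ↪ α,
    (∀ i, σ (x i) = x i) → σ = 1) (x : Fin k ↪ α) :
    MulAction.stabilizer (setSystemAut B) x = ⊥ := by
  rw [eq_bot_iff]
  intro σ hσ
  rw [MulAction.mem_stabilizer_iff] at hσ
  exact Subgroup.mem_bot.2 (Subtype.ext (hfix σ.1 σ.2 x fun i => DFunLike.congr_fun hσ i))

end Cfsg.Agent.Lib.Steiner
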