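import Cfsg.Prelude.Def_Sporadic_a

/-!
Counting in Steiner systems: blocks through a set, and the distribution of intersections of blocks
with a given set.
-/

set_option autoImplicit false

namespace Cfsg.Agent.Lib.Steiner

variable {α : Type*} [Fintype α] [DecidableEq α] {t k : ℕ} {B : Set (Finset α)}

/-- The blocks as a finset. -/
noncomputable def blocks (B : Set (Finset α)) : Finset (Finset α) := B.toFinite.toFinset

@[simp] theorem mem_blocks {b : Finset α} : b ∈ blocks B ↔ b ∈ B := Set.Finite.mem_toFinset _

theorem card_blocks : (blocks B).card = B.ncard := (Set.ncard_eq_toFinset_card B _).symm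

variable (hB : Cfsg.IsSteinerSystem t k B)

include hB

theorem eq_of_common {b c : Finset α} (hb : b ∈ B) (hc : c ∈ B) (h : t ≤ (b ∩ c).card) : b = c := by
  obtain ⟨s, hs, hst⟩ := Finset.exists_subset_card_eq h
  obtain ⟨u, -, hu⟩ := hB.2 s hst
  rw [hu b ⟨hb, hs.trans Finset.inter_subset_left⟩, hu c ⟨hc, hs.trans Finset.inter_subset_right⟩]

theorem inter_lt {b c : Finset α} (hb : b ∈ B) (hc : c ∈ B) (h : b ≠ c) : (b ∩ c).card < t :=
  not_le.1 fun hle => h (eq_of_common hB hb hc hle)

/-- Blocks through a given set of at most `t` points. -/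
theorem through (s : Finset α) (hs : s.card ≤ t) :
    ((blocks B).filter fun b => s ⊆ b).card * Nat.choose (k - s.card) (t - s.card) =
      Nat.choose (Fintype.card α - s.card) (t - s.card) := by
  classical
  have hex : ∀ T ∈ Finset.powersetCard (t - s.card) (Finset.univ \ s), (T ∪ s).card = t := by
    intro T hT
    rw [Finset.mem_powersetCard] at hT
    rw [Finset.card_union_of_disjoint (Finset.disjoint_of_subset_left hT.1 Finset.sdiff_disjoint)]
    omega
  choose f hf hfu using fun T hT => hB.2 (T ∪ s) (hex T hT)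
  let g : Finset α → Finset α := fun T =>
    if h : T ∈ Finset.powersetCard (t - s.card) (Finset.univ \ s) then f T h else ∅
  have hmaps : ∀ T ∈ Finset.powersetCard (t - s.card) (Finset.univ \ s),
      g T ∈ (blocks B).filter fun b => s ⊆ b := by
    intro T hT
    simp only [g, dif_pos hT, Finset.mem_filter, mem_blocks]
    exact ⟨(hf T hT).1, Finset.subset_union_right.trans (hf T hT).2⟩
  have hfib : ∀ b ∈ (blocks B).filter fun b => s ⊆ b,
      ((Finset.powersetCard (t - s.card) (Finset.univ \ s)).filter fun T => g T = b) =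
        Finset.powersetCard (t - s.card) (b \ s) := by
    intro b hb
    rw [Finset.mem_filter, mem_blocks] at hb
    ext T
    rw [Finset.mem_filter]
    conv_rhs => rw [Finset.mem_powersetCard]
    constructor
    · rintro ⟨hT, rfl⟩
      have hT' := Finset.mem_powersetCard.1 hT
      refine ⟨fun x hx => Finset.mem_sdiff.2 ⟨?_, (Finset.mem_sdiff.1 (hT'.1 hx)).2⟩, hT'.2⟩
      simp only [g, dif_pos hT]
      exact (hf T hT).2 (Finset.mem_union_left _ hx)
    · rintro ⟨h1, h2⟩
      have hT : T ∈ Finset.powersetCard (t - s.card) (Finset.univ \ s) := Finset.mem_powersetCard.2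
        ⟨fun x hx => Finset.mem_sdiff.2 ⟨Finset.mem_univ x, (Finset.mem_sdiff.1 (h1 hx)).2⟩, h2⟩
      refine ⟨hT, ?_⟩
      simp only [g, dif_pos hT]
      exact (hfu T hT b ⟨hb.1, Finset.union_subset (h1.trans Finset.sdiff_subset) hb.2⟩).symm
  have h := Finset.card_eq_sum_card_fiberwise hmaps
  rw [Finset.card_powersetCard, Finset.card_sdiff_of_subset (Finset.subset_univ s), Finset.card_univ] at h
  rw [h, Finset.sum_congr rfl (fun b hb => by rw [hfib b hb])]
  have hc : ∀ b ∈ (blocks B).filter fun b => s ⊆ b,
      (Finset.powersetCard (t - s.card) (b \ s)).card = Nat.choose (k - s.card) (t - s.card) := by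
    intro b hb
    rw [Finset.mem_filter, mem_blocks] at hb
    rw [Finset.card_powersetCard, Finset.card_sdiff_of_subset hb.2, hB.1 b hb.1]
  rw [Finset.sum_congr rfl hc, Finset.sum_const, smul_eq_mul]

theorem through_eq {s : Finset α} {i lam : ℕ} (hs : s.card = i) (hi : i ≤ t) (hkt : t ≤ k)
    (h : lam * Nat.choose (k - i) (t - i) = Nat.choose (Fintype.card α - i) (t - i)) :
    ((blocks B).filter fun b => s ⊆ b).card = lam := by
  subst hs
  exact Nat.eq_of_mul_eq_mul_right (Nat.choose_pos (by omega)) ((through hB s hi).trans h.symm)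

/-- The `i`-th intersection moment of a set. -/
theorem moment (W : Finset α) {i lam : ℕ} (hi : i ≤ t) (hkt : t ≤ k)
    (h : lam * Nat.choose (k - i) (t - i) = Nat.choose (Fintype.card α - i) (t - i)) :
    ∑ c ∈ blocks B, Nat.choose (W ∩ c).card i = Nat.choose W.card i * lam := by
  classical
  have hd := Finset.sum_card_bipartiteAbove_eq_sum_card_bipartiteBelow
    (s := Finset.powersetCard i W) (t := blocks B) (fun S c => S ⊆ c)
  have h1 : ∀ S ∈ Finset.powersetCard i W,
      ((blocks B).bipartiteAbove (fun S c => S ⊆ c) S).card = lam := fun S hS =>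
    through_eq hB (Finset.mem_powersetCard.1 hS).2 hi hkt h
  rw [Finset.sum_congr rfl h1, Finset.sum_const, Finset.card_powersetCard, smul_eq_mul] at hd
  rw [hd]
  refine Finset.sum_congr rfl fun c _ => ?_
  rw [← Finset.card_powersetCard]
  congr 1
  ext S
  simp only [Finset.mem_powersetCard, Finset.bipartiteBelow, Finset.mem_filter, Finset.subset_inter_iff]
  tauto

omit hB in
/-- Grouping a sum over blocks by intersection size. -/
theorem sum_by_size (W : Finset α) (g : ℕ → ℕ) {m : ℕ} (hm : ∀ c ∈ blocks B, (W ∩ c).card < m) :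
    ∑ c ∈ blocks B, g (W ∩ c).card =
      ∑ j ∈ Finset.range m, ((blocks B).filter fun c => (W ∩ c).card = j).card * g j := by
  rw [← Finset.sum_fiberwise_of_maps_to (g := fun c => (W ∩ c).card) (t := Finset.range m)
    (fun c hc => Finset.mem_range.2 (hm c hc))]
  refine Finset.sum_congr rfl fun j _ => ?_
  rw [Finset.sum_congr rfl (fun c hc => by rw [(Finset.mem_filter.1 hc).2]), Finset.sum_const,
    smul_eq_mul]

theorem distribution {b : Finset α} (hb : b ∈ B) {i lam : ℕ} (hi : i ≤ t) (hkt : t ≤ k)
    (h : lam * Nat.choose (k - i) (t - i) = Nat.choose (Fintype.card α - i) (t - i)) :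
    Nat.choose k i +
      ∑ j ∈ Finset.range t, (((blocks B).erase b).filter fun c => (b ∩ c).card = j).card * Nat.choose j i =
      Nat.choose k i * lam := by
  classical
  have hm := moment hB b hi hkt h
  rw [hB.1 b hb, ← Finset.add_sum_erase _ _ (mem_blocks.2 hb), Finset.inter_self, hB.1 b hb] at hm
  refine Eq.trans ?_ hm
  congr 1
  rw [← Finset.sum_fiberwise_of_maps_to (g := fun c => (b ∩ c).card) (t := Finset.range t)
    (fun c hc => ?_) (fun c => Nat.choose (b ∩ c).card i)]
  · refine Finset.sum_congr rfl fun j _ => ?_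
    rw [Finset.sum_congr rfl (g := fun _ => Nat.choose j i)
      (fun c hc => by rw [(Finset.mem_filter.1 hc).2]), Finset.sum_const, smul_eq_mul]
  · rw [Finset.mem_erase, mem_blocks] at hc
    exact Finset.mem_range.2 (inter_lt hB hb hc.2 (Ne.symm hc.1))

end Cfsg.Agent.Lib.Steiner
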