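import Mathlib.Data.Nat.Init

/-! # The standard blocks on twelve points, as masks -/

set_option autoImplicit false

namespace Cfsg.Agent.Lib.Steiner

/-- The standard 132 blocks. -/
def std12 : List ℕ :=
  [3591, 3640, 4032, 3657, 3730, 3876, 3857, 3682, 3724, 3745, 3850, 3668, 1563, 1581, 1614,
  1685, 1590, 1820, 1827, 1706, 1649, 1731, 1861, 1874, 1752, 1764, 1896, 1926, 1929, 1968, 2603,
  2829, 2590, 2643, 2613, 2713, 2726, 2668, 2866, 2757, 2886, 2762, 2904, 2913, 2800, 2947, 2964,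
  2984, 3211, 3101, 3118, 3123, 3350, 3162, 3173, 3369, 3252, 3395, 3270, 3404, 3281, 3304, 3440,
  3461, 3480, 3490, 504, 455, 63, 438, 365, 219, 238, 413, 371, 350, 245, 427, 2532, 2514, 2481,
  2410, 2505, 2275, 2268, 2389, 2446, 2364, 2234, 2221, 2343, 2331, 2199, 2169, 2166, 2127, 1492,
  1266, 1505, 1452, 1482, 1382, 1369, 1427, 1229, 1338, 1209, 1333, 1191, 1182, 1295, 1148, 1131,
  1111, 884, 994, 977, 972, 745, 933, 922, 726, 843, 700, 825, 691, 814, 791, 655, 634, 615, 605]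

end Cfsg.Agent.Lib.Steiner
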