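import Cfsg.Agent.Lib.Steiner.Unique
import Cfsg.Agent.Lib.Golay.Orbit
import Cfsg.Agent.Lib.Steiner.W12Data

/-! # The systems S(5,6,12) by a normalised search for exact covers -/

set_option autoImplicit false
set_option maxRecDepth 100000

namespace Cfsg.Agent.Lib.Steiner.W12

open Cfsg Cfsg.Agent.Lib.Steiner
open scoped Pointwise

/-! ### Masks -/

/-- Containment of masks. -/
def sub (a b : ℕ) : Bool := Nat.beq (a &&& b) a

/-- The number of ones below twelve. -/
def pop (m : ℕ) : ℕ := Golay.pc m

/-- The set of a mask. -/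
def ofMask (m : ℕ) : Finset (Fin 12) := Finset.univ.filter fun i => m.testBit i

theorem mem_ofMask {m : ℕ} {i : Fin 12} : i ∈ ofMask m ↔ m.testBit i = true := by simp [ofMask]

/-- The mask of a set. -/
def toMask (s : Finset (Fin 12)) : ℕ :=
  (List.finRange 12).foldr (fun i acc => if i ∈ s then 1 <<< (i : ℕ) ||| acc else acc) 0

theorem testBit_fold {β : Type*} (g : β → ℕ) (p : β → Bool) (j : ℕ) : ∀ L : List β,
    (L.foldr (fun i acc => if p i then 1 <<< g i ||| acc else acc) 0).testBit j =
      L.any (fun i => p i && decide (g i = j))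
  | [] => by simp
  | a :: L => by
    simp only [List.foldr_cons, List.any_cons]
    cases hp : p a
    · simpa [hp] using testBit_fold g p j L
    · simp only [if_true, Nat.testBit_or, testBit_fold g p j L, Bool.true_and]
      congr 1
      rw [Nat.one_shiftLeft, Nat.testBit_two_pow]

theorem ofMask_toMask (s : Finset (Fin 12)) : ofMask (toMask s) = s := by
  ext i
  rw [mem_ofMask, toMask]
  have := testBit_fold (fun i : Fin 12 => (i : ℕ)) (fun i => decide (i ∈ s)) i (List.finRange 12)
  simp only [decide_eq_true_eq] at this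
  rw [this]
  simp [List.any_eq_true, Fin.val_inj]

theorem toMask_lt (s : Finset (Fin 12)) : toMask s < 4096 := by
  refine Nat.lt_pow_two_of_testBit _ (n := 12) fun j hj => ?_
  rw [toMask]
  have := testBit_fold (fun i : Fin 12 => (i : ℕ)) (fun i => decide (i ∈ s)) j (List.finRange 12)
  simp only [decide_eq_true_eq] at this
  rw [this]
  simp only [List.any_eq_false]
  intro i _
  have := i.isLt
  simp; omega

theorem pop_eq (m : ℕ) (hm : m < 4096) : (ofMask m).card = pop m := by
  rw [pop, ← Golay.card_toSet]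
  refine Finset.card_bij (fun i _ => Golay.pt (i : ℕ)) ?_ ?_ ?_
  · intro i hi
    rw [mem_ofMask] at hi
    simp [Golay.mem_toSet, Golay.ix_pt (by omega : (i : ℕ) < 24), hi]
  · intro i _ j _ he
    refine Fin.ext ?_
    rw [← Golay.ix_pt (by omega : (i : ℕ) < 24), he, Golay.ix_pt (by omega : (j : ℕ) < 24)]
  · intro q hq
    rw [Golay.mem_toSet] at hq
    have h12 : Golay.ix q < 12 := by
      by_contra hge
      rw [Nat.testBit_lt_two_pow (lt_of_lt_of_le hm (le_trans (le_of_eq (by norm_num : 4096 = 2 ^ 12))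
        (Nat.pow_le_pow_right two_pos (by omega))))] at hq
      exact absurd hq (by simp)
    exact ⟨⟨Golay.ix q, h12⟩, mem_ofMask.2 hq, Golay.pt_ix q⟩

theorem card_toMask (s : Finset (Fin 12)) : pop (toMask s) = s.card := by
  rw [← pop_eq _ (toMask_lt s), ofMask_toMask]

theorem ofMask_inj {a b : ℕ} (ha : a < 4096) (hb : b < 4096) (h : ofMask a = ofMask b) : a = b := by
  refine Nat.eq_of_testBit_eq fun j => ?_
  by_cases hj : j < 12
  · have := congrArg (fun s => decide ((⟨j, hj⟩ : Fin 12) ∈ s)) h
    simpa [mem_ofMask] using this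
  · have hp : 4096 ≤ 2 ^ j :=
      le_trans (le_of_eq (by norm_num : 4096 = 2 ^ 12)) (Nat.pow_le_pow_right two_pos (by omega))
    rw [Nat.testBit_lt_two_pow (lt_of_lt_of_le ha hp), Nat.testBit_lt_two_pow (lt_of_lt_of_le hb hp)]

theorem sub_iff {a b : ℕ} (ha : a < 4096) : sub a b = true ↔ ofMask a ⊆ ofMask b := by
  rw [sub, Nat.beq_eq]
  constructor
  · intro h i hi
    rw [mem_ofMask] at hi ⊢
    rw [← h, Nat.testBit_and, Bool.and_eq_true] at hi
    exact hi.2
  · intro h
    refine Nat.eq_of_testBit_eq fun j => ?_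
    rw [Nat.testBit_and]
    cases hj : a.testBit j
    · rfl
    · have hlt : j < 12 := by
        by_contra hge
        rw [Nat.testBit_lt_two_pow (lt_of_lt_of_le ha
          (le_trans (le_of_eq (by norm_num : 4096 = 2 ^ 12))
            (Nat.pow_le_pow_right two_pos (by omega))))] at hj
        exact absurd hj (by simp)
      rw [Bool.true_and]
      exact mem_ofMask.1 (h (mem_ofMask.2 (show a.testBit (⟨j, hlt⟩ : Fin 12) = true from hj)))

theorem ofMask_inter (a b : ℕ) : ofMask a ∩ ofMask b = ofMask (a &&& b) := by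
  ext i; simp [mem_ofMask, Nat.testBit_and]

theorem compl_bits : ∀ j < 12, (4095 : ℕ).testBit j = true := by decide

theorem ofMask_compl (m : ℕ) : (ofMask m)ᶜ = ofMask (m ^^^ 4095) := by
  ext i
  simp [mem_ofMask, Nat.testBit_xor, compl_bits i i.isLt]

/-! ### Exact covers -/

/-- All ways to cover the targets exactly once. -/
def cover : ℕ → List ℕ → List ℕ → List (List ℕ)
  | _, _, [] => [[]]
  | 0, _, _ :: _ => []
  | n + 1, cs, t :: ts =>
    (cs.filter (sub t)).flatMap fun c =>
      let inC := (t :: ts).filter fun u => sub u c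
      (cover n (cs.filter fun d => !(inC.any fun u => sub u d))
        (ts.filter fun u => !sub u c)).map (c :: ·)

theorem cover_sound (P : ℕ → Prop) : ∀ (n : ℕ) (cs ts : List ℕ), ts.length ≤ n →
    (∀ c ∈ cs, P c → ∃ u ∈ ts, sub u c = true) →
    (∀ t ∈ ts, ∃ c ∈ cs, P c ∧ sub t c = true ∧
      ∀ d ∈ cs, P d → sub t d = true → d = c) →
    ∃ sol ∈ cover n cs ts, ∀ c, c ∈ sol ↔ c ∈ cs ∧ P c := by
  intro n
  induction n with
  | zero =>
    intro cs ts hlen h1 _
    have : ts = [] := List.length_eq_zero_iff.1 (by omega)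
    subst this
    exact ⟨[], by simp [cover], fun c =>
      ⟨fun h => absurd h List.not_mem_nil, fun ⟨hc, hP⟩ => by simpa using h1 c hc hP⟩⟩
  | succ n ih =>
    intro cs ts hlen h1 h2
    rcases ts with _ | ⟨t, ts⟩
    · exact ⟨[], by simp [cover], fun c =>
        ⟨fun h => absurd h List.not_mem_nil, fun ⟨hc, hP⟩ => by simpa using h1 c hc hP⟩⟩
    obtain ⟨c, hc, hPc, htc, huniq⟩ := h2 t List.mem_cons_self
    set inC := (t :: ts).filter fun u => sub u c with hinC
    set cs' := cs.filter fun d => !(inC.any fun u => sub u d) with hcs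
    have hkeep : ∀ d ∈ cs, P d → d ≠ c → d ∈ cs' := by
      intro d hd hPd hne
      simp only [hcs, hinC, List.mem_filter, Bool.not_eq_true', List.any_eq_false]
      refine ⟨hd, fun u hu hud => hne ?_⟩
      obtain ⟨c₀, -, -, -, hu'⟩ := h2 u hu.1
      rw [hu' d hd hPd hud, hu' c hc hPc hu.2]
    have hne' : ∀ d ∈ cs', d ∈ cs ∧ d ≠ c := by
      intro d hd
      simp only [hcs, hinC, List.mem_filter, Bool.not_eq_true', List.any_eq_false] at hd
      exact ⟨hd.1, fun e => hd.2 t ⟨List.mem_cons_self, htc⟩ (e ▸ htc)⟩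
    obtain ⟨sol, hsol, hmem⟩ := ih cs' (ts.filter fun u => !sub u c)
      (le_trans (List.length_filter_le _ _) (by simpa using hlen))
      (fun d hd hPd => by
        obtain ⟨hdcs, hne⟩ := hne' d hd
        obtain ⟨u, hu, hud⟩ := h1 d hdcs hPd
        rcases List.mem_cons.1 hu with rfl | hu'
        · exact absurd (huniq d hdcs hPd hud) hne
        · refine ⟨u, List.mem_filter.2 ⟨hu', ?_⟩, hud⟩
          rw [Bool.not_eq_true']
          by_contra h
          obtain ⟨c₀, -, -, -, huu⟩ := h2 u (List.mem_cons_of_mem _ hu')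
          exact hne ((huu d hdcs hPd hud).trans (huu c hc hPc (by simpa using h)).symm))
      (fun u hu => by
        obtain ⟨hu', huc⟩ := List.mem_filter.1 hu
        obtain ⟨d, hd, hPd, hud, huu⟩ := h2 u (List.mem_cons_of_mem _ hu')
        refine ⟨d, hkeep d hd hPd (fun e => ?_), hPd, hud, fun d' hd' => huu d' (hne' d' hd').1⟩
        rw [e] at hud
        simp [hud] at huc)
    refine ⟨c :: sol, List.mem_flatMap.2 ⟨c, List.mem_filter.2 ⟨hc, htc⟩, ?_⟩, fun d => ?_⟩
    · exact List.mem_map.2 ⟨sol, hsol, rfl⟩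
    · rw [List.mem_cons, hmem]
      constructor
      · rintro (rfl | ⟨hd, hPd⟩)
        · exact ⟨hc, hPc⟩
        · exact ⟨(hne' d hd).1, hPd⟩
      · rintro ⟨hd, hPd⟩
        by_cases e : d = c
        · exact Or.inl e
        · exact Or.inr ⟨hkeep d hd hPd e, hPd⟩

/-! ### Lists -/

/-- The masks of six points. -/
def sixes : List ℕ := Golay.combs 12 6

/-- The masks of five points. -/
def fives : List ℕ := Golay.combs 12 5

theorem mem_combs12 {k m : ℕ} (hm : m < 4096) (hc : pop m = k) : m ∈ Golay.combs 12 k := by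
  refine Golay.mem_combs 12 k m (hm.trans_eq (by norm_num)) ?_
  rw [← hc, ← pop_eq m hm]
  exact Finset.card_bij (fun i hi => ⟨i, Finset.mem_range.1 (Finset.mem_filter.1 hi).1⟩)
    (fun i hi => mem_ofMask.2 (Finset.mem_filter.1 hi).2)
    (fun i _ j _ he => congrArg Fin.val he)
    fun i hi => ⟨i, Finset.mem_filter.2 ⟨Finset.mem_range.2 i.isLt, mem_ofMask.1 hi⟩, rfl⟩

theorem sixes_ok : sixes.all (fun m => Nat.blt m 4096 && Nat.beq (pop m) 6) = true := by
  decide +kernel

theorem fives_ok : fives.all (fun m => Nat.blt m 4096 && Nat.beq (pop m) 5) = true := by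
  decide +kernel

theorem mem_sixes {m : ℕ} : m ∈ sixes ↔ m < 4096 ∧ pop m = 6 := by
  refine ⟨fun h => ?_, fun h => mem_combs12 h.1 h.2⟩
  have := List.all_eq_true.1 sixes_ok m h
  simpa using this

theorem mem_fives {m : ℕ} : m ∈ fives ↔ m < 4096 ∧ pop m = 5 := by
  refine ⟨fun h => ?_, fun h => mem_combs12 h.1 h.2⟩
  have := List.all_eq_true.1 fives_ok m h
  simpa using this

/-- The standard blocks through the three distinguished points. -/
def top : List ℕ := std12.take 12

/-- The standard blocks through the three distinguished points and the point `0`. -/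
def top0 : List ℕ := [3591, 3657, 3857, 3745]

/-- The candidates for the blocks through all three distinguished points and `0`. -/
def cand0 : List ℕ := sixes.filter fun m => sub 3585 m

/-- Their targets. -/
def targ0 : List ℕ := fives.filter fun m => sub 3585 m

/-- The candidates for the other blocks through the three distinguished points. -/
def cand1 : List ℕ := sixes.filter fun m =>
  sub 3584 m && !(m.testBit 0) && !(top0.any fun l => Nat.ble 5 (pop (l &&& m)))

/-- Their targets. -/
def targ1 : List ℕ := fives.filter fun m =>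
  sub 3584 m && !(m.testBit 0) && !(top0.any fun l => sub m l)

/-- A mask has no standard line. -/
def noLine (m : ℕ) : Bool := !(top.any fun l => sub (l &&& 511) m)

/-- The candidates for the blocks through exactly the pair `k`. -/
def cand2 (k : ℕ) : List ℕ := sixes.filter fun m => Nat.beq (m &&& 3584) k && noLine m

/-- Their targets. -/
def targ2 (k : ℕ) : List ℕ := fives.filter fun m => Nat.beq (m &&& 3584) k && noLine m

/-- Relabelling of a mask. -/
def img (f : Fin 12 → Fin 12) (m : ℕ) : ℕ :=
  (List.finRange 12).foldr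
    (fun (i : Fin 12) acc => if m.testBit i then 1 <<< (f i : ℕ) ||| acc else acc) 0

theorem ofMask_img (f : Fin 12 → Fin 12) (m : ℕ) : ofMask (img f m) = (ofMask m).image f := by
  ext j
  rw [mem_ofMask, img, testBit_fold (fun i : Fin 12 => (f i : ℕ)) (fun i : Fin 12 => m.testBit i) j]
  simp [List.any_eq_true, Fin.val_inj, mem_ofMask]

theorem img_lt (f : Fin 12 → Fin 12) (m : ℕ) : img f m < 4096 := by
  refine Nat.lt_pow_two_of_testBit _ (n := 12) fun j hj => ?_
  rw [img, testBit_fold (fun i : Fin 12 => (f i : ℕ)) (fun i : Fin 12 => m.testBit i) j]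
  simp only [List.any_eq_false]
  intro i _
  have := (f i).isLt
  simp; omega

/-- A list as a function. -/
def ofList (L : List ℕ) (i : Fin 12) : Fin 12 := ⟨(L.getD i 0) % 12, Nat.mod_lt _ (by norm_num)⟩

/-- The third point of the line of `L` through `a` and `b`. -/
def third (L : List ℕ) (a b : ℕ) : ℕ :=
  (((List.range 9).filter fun c => !(Nat.beq c a) && !(Nat.beq c b) &&
    L.elem (3584 ||| 1 <<< a ||| 1 <<< b ||| 1 <<< c))).headD 0

/-- The labelling of nine points by lines, from the labels of a triangle. -/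
def frame (L : List ℕ) (x y z : ℕ) : List ℕ :=
  let p2 := third L x y
  let p6 := third L x z
  let p8 := third L y z
  let p7 := third L p2 z
  let p4 := third L x p8
  let p5 := third L z p4
  [x, y, p2, z, p4, p5, p6, p7, p8, 9, 10, 11]

/-- The relabelling from the four lines at `0`. -/
def frame0 (sol : List ℕ) : List ℕ :=
  let e := sol.map fun m => (List.range 9).filter fun i => Nat.blt 0 i && m.testBit i
  let g := fun i j => (e.getD i []).getD j 0
  [0, g 0 0, g 0 1, g 1 0, g 2 0, g 3 0, g 1 1, g 3 1, g 2 1, 9, 10, 11]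

/-- The check of a solution of the first step. -/
def check0 (sol : List ℕ) : Bool :=
  let f := ofList (frame0 sol)
  decide (Function.Injective f) && decide (f 9 = 9 ∧ f 10 = 10 ∧ f 11 = 11) &&
    top0.all fun l => sol.elem (img f l)

theorem check0_all : (cover 40 cand0 targ0).all check0 = true := by decide +kernel

/-- The check of a solution of the second step. -/
def check1 (sol : List ℕ) : Bool :=
  let f := ofList (frame (top0 ++ sol) 0 1 3)
  decide (Function.Injective f) && decide (f 9 = 9 ∧ f 10 = 10 ∧ f 11 = 11) &&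
    top.all fun l => (top0 ++ sol).elem (img f l)

theorem check1_all : (cover 40 cand1 targ1).all check1 = true := by decide +kernel

/-- Two of the masks share five points. -/
def clash (M : List ℕ) : Bool :=
  M.any fun a => M.any fun b => !(Nat.beq a b) && Nat.ble 5 (pop (a &&& b))

/-- The six relabellings of the distinguished points. -/
def swaps : List (List ℕ) :=
  [[9, 10, 11], [9, 11, 10], [10, 9, 11], [10, 11, 9], [11, 9, 10], [11, 10, 9]].map
    fun s => List.range 9 ++ s

/-- The check of a triple of solutions of the second stage. -/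
def check2 (M : List ℕ) : Bool :=
  clash M || swaps.any fun s =>
    decide (Function.Injective (ofList s)) &&
      let all := top ++ M ++ (top ++ M).map (· ^^^ 4095)
      std12.all fun m => all.elem (img (ofList s) m)

theorem check2_all : ((cover 80 (cand2 1536) (targ2 1536)).all fun a =>
    (cover 80 (cand2 2560) (targ2 2560)).all fun b =>
    (cover 80 (cand2 3072) (targ2 3072)).all fun c => check2 (a ++ b ++ c)) = true := by
  decide +kernel

theorem lens : (targ0.length ≤ 40 ∧ targ1.length ≤ 40) ∧ ∀ k ∈ [1536, 2560, 3072], (targ2 k).length ≤ 80 := by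
  decide +kernel

theorem std12_six : ∀ m ∈ std12, m ∈ sixes := by decide +kernel

theorem cand0_targ : ∀ c ∈ cand0, ∃ u ∈ targ0, sub u c = true := by decide +kernel

theorem cand1_targ : ∀ c ∈ cand1, ∃ u ∈ targ1, sub u c = true := by decide +kernel

theorem top0_six : ∀ m ∈ top0, m ∈ sixes := by decide +kernel

/-- What a block through a target of the second step cannot be. -/
theorem targ1_line : ∀ t ∈ targ1, ∀ c ∈ sixes, sub t c = true →
    ¬ (sub 3584 c && !(c.testBit 0) && !(top0.any fun l => Nat.ble 5 (pop (l &&& c)))) = true →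
    ∃ l ∈ top0, (Nat.ble 5 (pop (l &&& c)) = true ∧ sub t l = false) := by
  decide +kernel

theorem cand2_targ : ∀ k ∈ [1536, 2560, 3072], ∀ c ∈ cand2 k, ∃ u ∈ targ2 k, sub u c = true := by
  decide +kernel

theorem top_line : ∀ m ∈ top, m ∈ std12 ∧ sub 3584 m = true := by decide +kernel

/-- A mask that a block through a target would have to be. -/
theorem targ2_line : ∀ k ∈ [1536, 2560, 3072], ∀ t ∈ targ2 k, ∀ c ∈ sixes, sub t c = true →
    ¬ (Nat.beq (c &&& 3584) k && noLine c) = true →
    ∃ l ∈ top, (Nat.ble 5 (pop (l &&& c)) = true ∧ sub t l = false) := by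
  decide +kernel

/-! ### The standard system -/

/-- The standard blocks. -/
def model : Set (Finset (Fin 12)) := {s | ∃ m ∈ std12, ofMask m = s}

theorem std12_exact : ∀ t ∈ fives, ((std12.filter fun m => sub t m).length = 1) := by
  decide +kernel

theorem model_steiner : IsSteinerSystem 5 6 model := by
  refine ⟨?_, fun s hs => ?_⟩
  · rintro _ ⟨m, hm, rfl⟩
    obtain ⟨hlt, hp⟩ := mem_sixes.1 (std12_six m hm)
    rw [pop_eq m hlt, hp]
  · have ht : toMask s ∈ fives := mem_fives.2 ⟨toMask_lt s, by rw [card_toMask, hs]⟩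
    obtain ⟨m, hm⟩ := List.length_eq_one_iff.1 (std12_exact _ ht)
    have hmem : m ∈ std12.filter fun m => sub (toMask s) m := by rw [hm]; simp
    obtain ⟨hm', hsub⟩ := List.mem_filter.1 hmem
    refine ⟨ofMask m, ⟨⟨m, hm', rfl⟩, ?_⟩, ?_⟩
    · rw [sub_iff (toMask_lt s), ofMask_toMask] at hsub; exact hsub
    · rintro _ ⟨⟨m', hm'', rfl⟩, hs'⟩
      have : m' ∈ std12.filter fun m => sub (toMask s) m :=
        List.mem_filter.2 ⟨hm'', by rw [sub_iff (toMask_lt s), ofMask_toMask]; exact hs'⟩
      rw [hm, List.mem_singleton] at this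
      rw [this]

section Systems

variable {B : Set (Finset (Fin 12))} (hB : IsSteinerSystem 5 6 B)

include hB

theorem block_of_five {t : ℕ} (ht : t ∈ fives) : ∃ c ∈ sixes, ofMask c ∈ B ∧ sub t c = true ∧
    ∀ d ∈ sixes, ofMask d ∈ B → sub t d = true → d = c := by
  obtain ⟨htl, htp⟩ := mem_fives.1 ht
  obtain ⟨b, ⟨hb, htb⟩, huniq⟩ := hB.2 (ofMask t) (by rw [pop_eq t htl, htp])
  refine ⟨toMask b, mem_sixes.2 ⟨toMask_lt b, by rw [card_toMask, hB.1 b hb]⟩,
    by rwa [ofMask_toMask], by rwa [sub_iff htl, ofMask_toMask], fun d hd hdB hdt => ?_⟩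
  rw [sub_iff htl] at hdt
  exact ofMask_inj (mem_sixes.1 hd).1 (toMask_lt b) (by
    rw [ofMask_toMask]; exact huniq _ ⟨hdB, hdt⟩)

theorem no_clash {M : List ℕ} (hM : ∀ m ∈ M, m ∈ sixes ∧ ofMask m ∈ B) : clash M = false := by
  by_contra h
  rw [Bool.not_eq_false, clash] at h
  simp only [List.any_eq_true, Bool.and_eq_true, Bool.not_eq_true', Nat.ble_eq] at h
  obtain ⟨a, ha, b, hb, hne, h5⟩ := h
  have hlt := (mem_sixes.1 (hM a ha).1).1
  have := eq_of_common hB (hM a ha).2 (hM b hb).2 (by
    rw [ofMask_inter, pop_eq _ (lt_of_le_of_lt Nat.and_le_left hlt)]; exact h5)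
  rw [ofMask_inj hlt (mem_sixes.1 (hM b hb).1).1 this] at hne
  simp at hne

/-- The four lines through the distinguished points and `0` become standard. -/
theorem exists_top0 : ∃ f : Fin 12 → Fin 12, Function.Injective f ∧
    (f 9 = 9 ∧ f 10 = 10 ∧ f 11 = 11) ∧ ∀ l ∈ top0, ofMask (img f l) ∈ B := by
  obtain ⟨sol, hsol, hmem⟩ := cover_sound (fun m => ofMask m ∈ B) 40 cand0 targ0 lens.1.1
    (fun c hc _ => cand0_targ c hc) (fun t ht => by
      obtain ⟨ht5, ht'⟩ := List.mem_filter.1 ht
      obtain ⟨c, hc, hcB, htc, huniq⟩ := block_of_five hB ht5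
      refine ⟨c, List.mem_filter.2 ⟨hc, ?_⟩, hcB, htc,
        fun d hd => huniq d (List.mem_filter.1 hd).1⟩
      rw [sub_iff (by norm_num)] at ht' ⊢
      rw [sub_iff (mem_fives.1 ht5).1] at htc
      exact ht'.trans htc)
  have hck := List.all_eq_true.1 check0_all sol hsol
  simp only [check0, Bool.and_eq_true, decide_eq_true_eq, List.all_eq_true,
    List.elem_iff] at hck
  obtain ⟨⟨hinj, hfix⟩, hl⟩ := hck
  exact ⟨_, hinj, hfix, fun l hl' => ((hmem _).1 (hl l hl')).2⟩

/-- With four lines standard, all twelve become standard. -/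
theorem exists_top (h0 : ∀ l ∈ top0, ofMask l ∈ B) : ∃ f : Fin 12 → Fin 12, Function.Injective f ∧
    (f 9 = 9 ∧ f 10 = 10 ∧ f 11 = 11) ∧ ∀ l ∈ top, ofMask (img f l) ∈ B := by
  obtain ⟨sol, hsol, hmem⟩ := cover_sound (fun m => ofMask m ∈ B) 40 cand1 targ1 lens.1.2
    (fun c hc _ => cand1_targ c hc) (fun t ht => by
      obtain ⟨ht5, -⟩ := List.mem_filter.1 ht
      obtain ⟨c, hc, hcB, htc, huniq⟩ := block_of_five hB ht5
      refine ⟨c, List.mem_filter.2 ⟨hc, ?_⟩, hcB, htc,
        fun d hd => huniq d (List.mem_filter.1 hd).1⟩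
      by_contra hno
      obtain ⟨l, hl, h5, htl⟩ := targ1_line t ht c hc htc hno
      have hls := mem_sixes.1 (top0_six l hl)
      have := eq_of_common hB (h0 l hl) hcB (by
        rw [ofMask_inter, pop_eq _ (lt_of_le_of_lt Nat.and_le_left hls.1)]
        exact Nat.le_of_ble_eq_true h5)
      rw [ofMask_inj hls.1 (mem_sixes.1 hc).1 this, htc] at htl
      exact absurd htl (by simp))
  have hck := List.all_eq_true.1 check1_all sol hsol
  simp only [check1, Bool.and_eq_true, decide_eq_true_eq, List.all_eq_true,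
    List.elem_iff] at hck
  obtain ⟨⟨hinj, hfix⟩, hl⟩ := hck
  refine ⟨_, hinj, hfix, fun l hl' => ?_⟩
  rcases List.mem_append.1 (hl l hl') with h | h
  · exact h0 _ h
  · exact ((hmem _).1 h).2

/-- With the lines standard, a permutation of the distinguished points gives the standard system. -/
theorem exists_full (hc : ∀ b ∈ B, bᶜ ∈ B) (htop : ∀ l ∈ top, ofMask l ∈ B) :
    ∃ f : Fin 12 → Fin 12, Function.Injective f ∧ (∀ i : Fin 12, (i : ℕ) < 9 → f i = i) ∧
      ∀ s ∈ model, s.image f ∈ B := by
  have hcov : ∀ k ∈ [1536, 2560, 3072], ∃ sol ∈ cover 80 (cand2 k) (targ2 k),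
      ∀ c ∈ sol, c ∈ sixes ∧ ofMask c ∈ B := by
    intro k hk
    obtain ⟨sol, hsol, hmem⟩ := cover_sound (fun m => ofMask m ∈ B) 80 (cand2 k) (targ2 k)
      (lens.2 k hk) (fun c hc _ => cand2_targ k hk c hc) (fun t ht => by
        have ht5 := (List.mem_filter.1 ht).1
        obtain ⟨c, hcs, hcB, htc, huniq⟩ := block_of_five hB ht5
        refine ⟨c, List.mem_filter.2 ⟨hcs, ?_⟩, hcB, htc,
          fun d hd => huniq d (List.mem_filter.1 hd).1⟩
        by_contra hno
        obtain ⟨l, hl, h5, htl⟩ := targ2_line k hk t ht c hcs htc hno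
        have hls := mem_sixes.1 (std12_six l (top_line l hl).1)
        have := eq_of_common hB (htop l hl) hcB (by
          rw [ofMask_inter, pop_eq _ (lt_of_le_of_lt Nat.and_le_left hls.1)]
          exact Nat.le_of_ble_eq_true h5)
        rw [ofMask_inj hls.1 (mem_sixes.1 hcs).1 this, htc] at htl
        exact absurd htl (by simp))
    exact ⟨sol, hsol, fun c hc => ⟨(List.mem_filter.1 ((hmem c).1 hc).1).1, ((hmem c).1 hc).2⟩⟩
  obtain ⟨a, ha, ha'⟩ := hcov 1536 (by simp)
  obtain ⟨b, hb, hb'⟩ := hcov 2560 (by simp)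
  obtain ⟨c, hc3, hc'⟩ := hcov 3072 (by simp)
  have hck := List.all_eq_true.1 (List.all_eq_true.1 (List.all_eq_true.1 check2_all a ha) b hb) c hc3
  have hM : ∀ m ∈ a ++ b ++ c, m ∈ sixes ∧ ofMask m ∈ B := by
    simp only [List.mem_append]
    rintro m ((h | h) | h)
    exacts [ha' m h, hb' m h, hc' m h]
  rw [check2, no_clash hB hM, Bool.false_or] at hck
  simp only [List.any_eq_true, Bool.and_eq_true, decide_eq_true_eq, List.all_eq_true,
    List.elem_iff] at hck
  obtain ⟨s, hs, hinj, hall⟩ := hck
  refine ⟨ofList s, hinj, ?_, ?_⟩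
  · have key : ∀ s ∈ swaps, ∀ i : Fin 12, (i : ℕ) < 9 → ofList s i = i := by decide +kernel
    exact key s hs
  · rintro _ ⟨m, hm, rfl⟩
    have := hall m hm
    rw [← ofMask_img]
    simp only [List.mem_append, List.mem_map] at this
    have hup : ∀ m, m ∈ top ∨ (m ∈ a ∨ m ∈ b) ∨ m ∈ c → ofMask m ∈ B := by
      rintro m (h | h)
      · exact htop m h
      · exact (hM m (by simp only [List.mem_append]; exact h)).2
    rcases this with h | ⟨m', h, he⟩
    · exact hup _ h
    · rw [← he, ← ofMask_compl]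
      exact hc _ (hup _ h)

end Systems

end Cfsg.Agent.Lib.Steiner.W12
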